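import Groth.Agent.LoccohB.LBC2
import Groth.Agent.LoccohB.FlatDual
import Groth.Agent.LoccohB.DualShift
import Groth.Agent.S1776

/-!
# Derived base change of dualizing complexes to polynomial rings in finitely many variables
-/

set_option autoImplicit false
universe u

open CategoryTheory CategoryTheory.Limits

attribute [local instance] HasDerivedCategory.standard

namespace Groth.Agent.Ega4dB.DualMvPoly

open DerivedCategory Groth.Agent.LoccohB

/-- Base change along a ring isomorphism preserves dualizing complexes. -/
theorem isDualizing_of_equiv {A B : Type u} [CommRing A] [CommRing B] [IsNoetherianRing A]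
    (e : A ≃+* B) [DRing.HasLBaseChange e.toRingHom] (ω : Dual.D A) (hω : Dual.IsDualizing A ω) :
    Dual.IsDualizing B ((DRing.LBaseChange e.toRingHom).obj ω) := by
  have : IsNoetherianRing B := isNoetherianRing_of_ringEquiv A e
  let _ : Algebra A B := e.toRingHom.toAlgebra
  have hflat : Module.Flat A B := by
    let e' : A ≃ₗ[A] B :=
      { e with
        map_smul' := fun a b => by
          change e (a * b) = e a * e b
          exact map_mul e a b }
    exact Module.Flat.of_linearEquiv e'.symm
  have : DRing.HasLBaseChange (algebraMap A B) := LBC.hasLBaseChange _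
  exact FlatDual.isDualizing_LBaseChange_of_maximal (A := A) (B := B) ω hω (fun m _ =>
    ⟨m.comap (algebraMap A B), Ideal.map_comap_of_surjective _ e.surjective m⟩)

/-- Base change of a dualizing complex to a polynomial ring. -/
theorem isDualizing_mvPolynomial {R : Type u} [CommRing R] [IsNoetherianRing R] (ω : Dual.D R)
    (hω : Dual.IsDualizing R ω) (n : ℕ) :
    ∀ [DRing.HasLBaseChange (algebraMap R (MvPolynomial (Fin n) R))],
    Dual.IsDualizing (MvPolynomial (Fin n) R)
      ((DRing.LBaseChange (algebraMap R (MvPolynomial (Fin n) R))).obj ω) := by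
  induction n with
  | zero =>
    intro _
    refine FlatDual.isDualizing_LBaseChange_of_maximal ω hω (fun m _ =>
      ⟨m.comap (algebraMap R (MvPolynomial (Fin 0) R)),
        Ideal.map_comap_of_surjective _ ?_ m⟩)
    exact (MvPolynomial.isEmptyRingEquiv R (Fin 0)).symm.surjective
  | succ n ih =>
    intro _
    have i1 : DRing.HasLBaseChange (algebraMap R (MvPolynomial (Fin n) R)) :=
      LBC.hasLBaseChange _
    have i2 : DRing.HasLBaseChange (algebraMap (MvPolynomial (Fin n) R)
      (Polynomial (MvPolynomial (Fin n) R))) := LBC.hasLBaseChange _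
    have i3 : DRing.HasLBaseChange ((algebraMap (MvPolynomial (Fin n) R)
      (Polynomial (MvPolynomial (Fin n) R))).comp
        (algebraMap R (MvPolynomial (Fin n) R))) := LBC.hasLBaseChange _
    have i4 : DRing.HasLBaseChange
      (MvPolynomial.finSuccEquiv R n).symm.toRingEquiv.toRingHom := LBC.hasLBaseChange _
    have h1 := ih
    have h2 := Groth.Agent.S1776.result (MvPolynomial (Fin n) R) _ h1
    have h3 := isDualizing_of_equiv (MvPolynomial.finSuccEquiv R n).symm.toRingEquiv _ h2
    refine DualShift.isDualizing_of_iso ?_ h3
    refine (DRing.LBaseChange _).mapIso ((LBC.lbcComp (algebraMap R (MvPolynomial (Fin n) R))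
      (algebraMap (MvPolynomial (Fin n) R) (Polynomial (MvPolynomial (Fin n) R))) _ rfl).app ω) ≪≫
      (LBC.lbcComp _ (MvPolynomial.finSuccEquiv R n).symm.toRingEquiv.toRingHom
        (algebraMap R (MvPolynomial (Fin (n + 1)) R)) ?_).app ω
    ext r : 1
    change _ = (MvPolynomial.finSuccEquiv R n).symm (algebraMap R (Polynomial (MvPolynomial (Fin n) R)) r)
    rw [AlgEquiv.commutes]

end Groth.Agent.Ega4dB.DualMvPoly
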