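import Groth.Agent.LoccohB.LBC2
import Groth.Agent.LoccohB.HomBC2
import Groth.Agent.LoccohB.FinInj

/-!
# Right adjoints of restriction of scalars on `D(A)`: bounds and finiteness of cohomology
-/

set_option autoImplicit false
universe u

open CategoryTheory CategoryTheory.Limits

attribute [local instance] HasDerivedCategory.standard

namespace Groth.Agent.Ega4dB.DualRadj

open DerivedCategory Groth.Agent.LoccohB

variable {P A : Type u} [CommRing P] [CommRing A] (φ : P →+* A)

/-- Restriction of scalars of a module in degree zero. -/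
noncomputable def restrictInD (M : ModuleCat.{u} A) :
    (DRing.restrictD φ).obj ((singleFunctor (ModuleCat.{u} A) 0).obj M) ≅
      (singleFunctor (ModuleCat.{u} P) 0).obj ((ModuleCat.restrictScalars.{u} φ).obj M) :=
  ((ModuleCat.restrictScalars.{u} φ).mapDerivedCategorySingleFunctor 0).app M

variable {R : Dual.D P ⥤ Dual.D A} (adj : DRing.restrictD φ ⊣ R)

/-- `Hom(M, R(K)[i]) ≃ Hom(M, K[i])`. -/
noncomputable def homEquiv (M : ModuleCat.{u} A) (K : Dual.D P) (i : ℤ) :
    ((singleFunctor (ModuleCat.{u} P) 0).obj ((ModuleCat.restrictScalars.{u} φ).obj M) ⟶ K⟦i⟧) ≃+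
      ((singleFunctor (ModuleCat.{u} A) 0).obj M ⟶ (R.obj K)⟦i⟧) :=
  haveI : R.Additive := adj.right_adjoint_additive
  { toFun := fun f => adj.homEquiv _ _ ((restrictInD φ M).hom ≫ f) ≫
      (LBC.radj_shift φ adj K i).some.hom
    invFun := fun g => (restrictInD φ M).inv ≫
      (adj.homEquiv _ _).symm (g ≫ (LBC.radj_shift φ adj K i).some.inv)
    left_inv := fun f => by simp
    right_inv := fun g => by simp
    map_add' := fun f g => by
      rw [Preadditive.comp_add, Adjunction.homEquiv_unit, Adjunction.homEquiv_unit,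
        Adjunction.homEquiv_unit, Functor.map_add, Preadditive.comp_add, Preadditive.add_comp] }

lemma homEquiv_smul (M : ModuleCat.{u} A) (K : Dual.D P) (i : ℤ) (p : P)
    (f : (singleFunctor (ModuleCat.{u} P) 0).obj ((ModuleCat.restrictScalars.{u} φ).obj M) ⟶ K⟦i⟧) :
    homEquiv φ adj M K i (p • f) = φ p • homEquiv φ adj M K i f := by
  change adj.homEquiv _ _ ((restrictInD φ M).hom ≫ (p • f)) ≫ _ =
    φ p • (adj.homEquiv _ _ ((restrictInD φ M).hom ≫ f) ≫ _)
  rw [Linear.comp_smul, LBC.radj_homEquiv_smul φ adj, Linear.smul_comp]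

include adj in
/-- A right adjoint of restriction preserves lower bounds. -/
theorem isGE_radj (K : Dual.D P) (a : ℤ) [K.IsGE a] : (R.obj K).IsGE a := by
  refine HomBC.isGE_of_subsingleton _ a (fun i hi => ?_)
  have h1 := FinInj.subsingleton_of_isGE
    ((ModuleCat.restrictScalars.{u} φ).obj (ModuleCat.of A A)) K a i hi
  exact (homEquiv φ adj (ModuleCat.of A A) K i).toEquiv.subsingleton_congr.1 h1

include adj in
/-- A right adjoint of restriction along a finite map preserves `D⁺_Coh`. -/
theorem finite_HD_radj [IsNoetherianRing P] (hφ : φ.Finite) (K : Dual.D P) (a : ℤ) [K.IsGE a]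
    (hK : ∀ i, Module.Finite P (Dual.HD P K i)) (i : ℤ) :
    Module.Finite A (Dual.HD A (R.obj K) i) := by
  have h1 : IsNoetherian P ((singleFunctor (ModuleCat.{u} P) 0).obj
      ((ModuleCat.restrictScalars.{u} φ).obj (ModuleCat.of A A)) ⟶ K⟦i⟧) := by
    have : Module.Finite P ((ModuleCat.restrictScalars.{u} φ).obj (ModuleCat.of A A)) := by
      algebraize [φ]
      exact (inferInstance : Module.Finite P A)
    exact FinInj.isNoetherian_hom K a hK
      ((ModuleCat.restrictScalars.{u} φ).obj (ModuleCat.of A A)) i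
  let _ : Algebra P A := φ.toAlgebra
  let _ : Module P (Dual.inD A A ⟶ (R.obj K)⟦i⟧) := Module.compHom _ φ
  have : IsScalarTower P A (Dual.inD A A ⟶ (R.obj K)⟦i⟧) :=
    ⟨fun p a f => by
      change (φ p * a) • f = φ p • (a • f)
      rw [mul_smul]⟩
  let e : ((singleFunctor (ModuleCat.{u} P) 0).obj
      ((ModuleCat.restrictScalars.{u} φ).obj (ModuleCat.of A A)) ⟶ K⟦i⟧) ≃ₗ[P]
        (Dual.inD A A ⟶ (R.obj K)⟦i⟧) :=
    { homEquiv φ adj (ModuleCat.of A A) K i with
      map_smul' := fun p f => homEquiv_smul φ adj (ModuleCat.of A A) K i p f }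
  have h2 : Module.Finite P (Dual.inD A A ⟶ (R.obj K)⟦i⟧) := Module.Finite.equiv e
  have h3 : Module.Finite A (Dual.inD A A ⟶ (R.obj K)⟦i⟧) :=
    Module.Finite.of_restrictScalars_finite P A _
  exact Module.Finite.equiv (FinInj.homInDSelfEquiv (R.obj K) i)

end Groth.Agent.Ega4dB.DualRadj
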