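import Groth.Agent.LoccohA.ExtUnit
import Groth.Agent.CalgA.RegSerre
import Mathlib.RingTheory.Regular.ProjectiveDimension
import Mathlib.Algebra.Category.ModuleCat.Ext.HasExt

/-!
# Lifting homomorphisms `R/I → R/(f,t)` to `R/I → R/(f)`

Let `f = (f₁, …, fₙ)`, `t` be a regular sequence with `fᵢ ∈ I` and `Ext^{n+1}(R/I, R) = 0`. Then every
`R`-linear map `R/I → R/(f, t)` lifts to `R/I → R/(f)`.
-/

set_option autoImplicit false

universe u

open CategoryTheory CategoryTheory.Abelian Groth.Agent.LoccohA.ExtUnit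

namespace Groth.Agent.Ega4dB.ExtLift

variable {R : Type u} [CommRing R]

/-- `r` is a nonzerodivisor modulo `J` -/
def NZ (J : Ideal R) (r : R) : Prop := ∀ x, r * x ∈ J → x ∈ J

/-- `rs` is a weakly regular sequence modulo `J` -/
def RegOn (J : Ideal R) : List R → Prop
  | [] => True
  | r :: rs => NZ J r ∧ RegOn (J ⊔ Ideal.span {r}) rs

/-- the module `R / J` -/
noncomputable abbrev Q (J : Ideal R) : ModuleCat.{u} R := ModuleCat.of R (R ⧸ J)

/-- the projection `R / J → R / J'` -/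
noncomputable def pr {J J' : Ideal R} (h : J ≤ J') : Q J ⟶ Q J' :=
  ModuleCat.ofHom (Ideal.Quotient.factorₐ R h).toLinearMap

theorem pr_mk {J J' : Ideal R} (h : J ≤ J') (x : R) :
    (pr h).hom (Ideal.Quotient.mk J x) = Ideal.Quotient.mk J' x := rfl

theorem pr_comp {J J' J'' : Ideal R} (h : J ≤ J') (h' : J' ≤ J'') :
    pr h ≫ pr h' = pr (h.trans h') := by
  refine ModuleCat.hom_ext (LinearMap.ext fun x => ?_)
  obtain ⟨x, rfl⟩ := Ideal.Quotient.mk_surjective x
  rfl

/-- multiplication by `r` on `R / J` -/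
noncomputable def mul (J : Ideal R) (r : R) : Q J ⟶ Q J := r • 𝟙 (Q J)

theorem mul_mk (J : Ideal R) (r x : R) :
    (mul J r).hom (Ideal.Quotient.mk J x) = Ideal.Quotient.mk J (r * x) := rfl

/-- the short complex `R/J → R/J → R/(J, r)` -/
noncomputable def sc (J : Ideal R) (r : R) : ShortComplex (ModuleCat.{u} R) :=
  ShortComplex.mk (mul J r) (pr (le_sup_left : J ≤ J ⊔ Ideal.span {r})) (by
    refine ModuleCat.hom_ext (LinearMap.ext fun x => ?_)
    obtain ⟨x, rfl⟩ := Ideal.Quotient.mk_surjective x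
    change Ideal.Quotient.mk _ (r * x) = 0
    rw [Ideal.Quotient.eq_zero_iff_mem]
    exact Ideal.mul_mem_right _ _ (Ideal.mem_sup_right (Ideal.mem_span_singleton_self r)))

theorem sc_shortExact {J : Ideal R} {r : R} (h : NZ J r) : (sc J r).ShortExact := by
  refine ModuleCat.shortComplex_shortExact (sc J r) ?_ ?_ ?_
  · intro x
    constructor
    · intro hx
      obtain ⟨x, rfl⟩ := Ideal.Quotient.mk_surjective x
      have hx' : Ideal.Quotient.mk (J ⊔ Ideal.span {r}) x = 0 := hx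
      rw [Ideal.Quotient.eq_zero_iff_mem, Submodule.mem_sup] at hx'
      obtain ⟨a, ha, b, hb, rfl⟩ := hx'
      obtain ⟨c, rfl⟩ := Ideal.mem_span_singleton'.1 hb
      refine ⟨Ideal.Quotient.mk J c, ?_⟩
      change Ideal.Quotient.mk J (r * c) = Ideal.Quotient.mk J (a + c * r)
      rw [Ideal.Quotient.mk_eq_mk_iff_sub_mem]
      have : r * c - (a + c * r) = -a := by ring
      rw [this]
      exact J.neg_mem ha
    · rintro ⟨y, rfl⟩
      obtain ⟨y, rfl⟩ := Ideal.Quotient.mk_surjective y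
      change Ideal.Quotient.mk _ (r * y) = 0
      rw [Ideal.Quotient.eq_zero_iff_mem]
      exact Ideal.mul_mem_right _ _ (Ideal.mem_sup_right (Ideal.mem_span_singleton_self r))
  · change Function.Injective (mul J r).hom
    rw [injective_iff_map_eq_zero]
    intro x hx
    obtain ⟨x, rfl⟩ := Ideal.Quotient.mk_surjective x
    rw [mul_mk, Ideal.Quotient.eq_zero_iff_mem] at hx
    rw [Ideal.Quotient.eq_zero_iff_mem]
    exact h x hx
  · intro x
    obtain ⟨x, rfl⟩ := Ideal.Quotient.mk_surjective x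
    exact ⟨Ideal.Quotient.mk J x, rfl⟩

/-- the morphism of short complexes `sc J r → sc J' r` -/
noncomputable def scMap {J J' : Ideal R} (h : J ≤ J') (r : R) : sc J r ⟶ sc J' r where
  τ₁ := pr h
  τ₂ := pr h
  τ₃ := pr (sup_le_sup_right h _)
  comm₁₂ := by
    refine ModuleCat.hom_ext (LinearMap.ext fun x => ?_)
    obtain ⟨x, rfl⟩ := Ideal.Quotient.mk_surjective x
    rfl
  comm₂₃ := by
    refine ModuleCat.hom_ext (LinearMap.ext fun x => ?_)
    obtain ⟨x, rfl⟩ := Ideal.Quotient.mk_surjective x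
    rfl

variable (T : ModuleCat.{u} R)

/-- the connecting homomorphism -/
noncomputable def dl {J : Ideal R} {r : R} (h : NZ J r) (n : ℕ) :
    Ext.{u} T (Q (J ⊔ Ideal.span {r})) n →+ Ext.{u} T (Q J) (n + 1) :=
  δ T (sc_shortExact h) n

theorem dl_exact₁ {J : Ideal R} {r : R} (h : NZ J r) {n : ℕ} (x : Ext.{u} T (Q J) (n + 1))
    (hx : α T (mul J r) (n + 1) x = 0) : ∃ y, dl T h n y = x :=
  exact₁ T (sc_shortExact h) x hx

theorem dl_exact₃ {J : Ideal R} {r : R} (h : NZ J r) {n : ℕ}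
    (x : Ext.{u} T (Q (J ⊔ Ideal.span {r})) n) (hx : dl T h n x = 0) :
    ∃ y, α T (pr (le_sup_left : J ≤ J ⊔ Ideal.span {r})) n y = x :=
  exact₃ T (sc_shortExact h) x hx

theorem dl_nat {J J' : Ideal R} (h : J ≤ J') {r : R} (hJ : NZ J r) (hJ' : NZ J' r) {n : ℕ}
    (w : Ext.{u} T (Q (J ⊔ Ideal.span {r})) n) :
    α T (pr h) (n + 1) (dl T hJ n w) =
      dl T hJ' n (α T (pr (sup_le_sup_right h (Ideal.span {r}))) n w) :=
  α_δ (sc_shortExact hJ) (sc_shortExact hJ') (scMap h r) w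

/-- an element killing `T` acts as zero on `Ext T (R/J)` -/
theorem mul_eq_zero {r : R} (hr : r • 𝟙 T = 0) (J : Ideal R) (n : ℕ) (x : Ext.{u} T (Q J) n) :
    α T (mul J r) n x = 0 := by
  rw [α_apply, mul]
  have h1 : (x.comp (Ext.mk₀ (r • 𝟙 (Q J))) (add_zero n)) = r • x := by
    rw [Ext.mk₀_smul, Ext.comp_smul, Ext.comp_mk₀_id]
  have h2 : r • x = ((Ext.mk₀ (r • 𝟙 T)).comp x (zero_add n)) := by
    rw [Ext.mk₀_smul, Ext.smul_comp, Ext.mk₀_id_comp]
  rw [h1, h2, hr, Ext.mk₀_zero, Ext.zero_comp]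

/-- vanishing of `Ext` below the length of a regular sequence killing `T` -/
theorem ext_eq_zero : ∀ (rs : List R) (J : Ideal R), RegOn J rs → (∀ r ∈ rs, r • 𝟙 T = 0) →
    ∀ n < rs.length, ∀ x : Ext.{u} T (Q J) n, x = 0 := by
  intro rs
  induction rs with
  | nil => intro J _ _ n hn; simp at hn
  | cons r rs ih =>
    intro J hJ hT n hn x
    have h0 := mul_eq_zero T (hT r (by simp)) J n x
    rcases n with _ | n
    · exact inj₁ T (sc_shortExact hJ.1) x h0
    · obtain ⟨y, hy⟩ := dl_exact₁ T hJ.1 x h0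
      have hy0 : y = 0 := ih (J ⊔ Ideal.span {r}) hJ.2 (fun s hs => hT s (by simp [hs])) n
        (by simpa using hn) y
      rw [← hy, hy0, map_zero]

/-- surjectivity of `Ext` along `R/J → R/J'` passes to `R/(J,r) → R/(J',r)` in one degree less -/
theorem surj_step {J J' : Ideal R} (h : J ≤ J') {r : R} (hJ : NZ J r) (hJ' : NZ J' r)
    (hr : r • 𝟙 T = 0) (n : ℕ) (hv : ∀ x : Ext.{u} T (Q J') n, x = 0)
    (hs : Function.Surjective (α.{u} T (pr h) (n + 1))) :
    Function.Surjective (α.{u} T (pr (sup_le_sup_right h (Ideal.span {r}))) n) := by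
  intro z
  obtain ⟨x, hx⟩ := hs (dl T hJ' n z)
  obtain ⟨w, hw⟩ := dl_exact₁ T hJ x (mul_eq_zero T hr J (n + 1) x)
  have h1 : dl T hJ' n (z - α T (pr (sup_le_sup_right h (Ideal.span {r}))) n w) = 0 := by
    rw [map_sub, ← hx, ← hw, dl_nat T h hJ hJ' w, sub_self]
  obtain ⟨v, hv'⟩ := dl_exact₃ T hJ' _ h1
  rw [hv v, map_zero] at hv'
  exact ⟨w, (sub_eq_zero.1 hv'.symm).symm⟩

/-- iterated step -/
theorem surj_list : ∀ (rs : List R) {J J' : Ideal R} (h : J ≤ J'), RegOn J rs → RegOn J' rs →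
    (∀ r ∈ rs, r • 𝟙 T = 0) → Function.Surjective (α.{u} T (pr h) rs.length) →
    Function.Surjective (α.{u} T (pr (sup_le_sup_right h (Ideal.ofList rs))) 0) := by
  intro rs
  induction rs with
  | nil =>
    intro J J' h _ _ _ hs z
    have e1 : J ⊔ Ideal.ofList [] = J := by simp
    have e2 : J' ⊔ Ideal.ofList [] = J' := by simp
    have key : ∀ (K K' : Ideal R) (e1 : K = J) (e2 : K' = J') (hK : K ≤ K'),
        Function.Surjective (α.{u} T (pr hK) 0) := by
      rintro K K' rfl rfl hK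
      exact hs
    exact key _ _ e1 e2 _ z
  | cons r rs ih =>
    intro J J' h hJ hJ' hT hs
    have h1 := surj_step T h hJ.1 hJ'.1 (hT r (by simp)) rs.length
      (fun x => ext_eq_zero T (r :: rs) J' hJ' hT rs.length (by simp) x) hs
    have h2 := ih (sup_le_sup_right h (Ideal.span {r})) hJ.2 hJ'.2 (fun s hs => hT s (by simp [hs])) h1
    have e1 : ∀ K : Ideal R, K ⊔ Ideal.ofList (r :: rs) = K ⊔ Ideal.span {r} ⊔ Ideal.ofList rs := by
      intro K
      rw [Ideal.ofList_cons, sup_assoc]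
    have key : ∀ (K K' : Ideal R) (e1 : K = J ⊔ Ideal.span {r} ⊔ Ideal.ofList rs)
        (e2 : K' = J' ⊔ Ideal.span {r} ⊔ Ideal.ofList rs) (hK : K ≤ K'),
        Function.Surjective (α.{u} T (pr hK) 0) := by
      rintro K K' rfl rfl hK
      exact h2
    exact key _ _ (e1 J) (e1 J') _

/-- The start of the induction: `Ext^{n+1}(T, R/J) = 0` gives surjectivity of
`Ext^n(T, R/J) → Ext^n(T, R/(J,t))`. -/
theorem surj_base {J : Ideal R} {t : R} (ht : NZ J t) (n : ℕ)
    (hv : ∀ x : Ext.{u} T (Q J) (n + 1), x = 0) :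
    Function.Surjective (α.{u} T (pr (le_sup_left : J ≤ J ⊔ Ideal.span {t})) n) :=
  fun z => dl_exact₃ T ht z (hv _)

/-- **Lifting lemma.** `f = rs` regular modulo `J` and modulo `(J,t)`, `t` regular modulo `J`, `rs` kills
`T`, `Ext^{n+1}(T, R/J) = 0` with `n = rs.length`: every map `T → R/(J,t,f)` lifts to `R/(J,f)`. -/
theorem exists_lift_hom (rs : List R) {J : Ideal R} {t : R} (ht : NZ J t) (h1 : RegOn J rs)
    (h2 : RegOn (J ⊔ Ideal.span {t}) rs) (hT : ∀ r ∈ rs, r • 𝟙 T = 0)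
    (hv : ∀ x : Ext.{u} T (Q J) (rs.length + 1), x = 0)
    (φ : T ⟶ Q (J ⊔ Ideal.span {t} ⊔ Ideal.ofList rs)) :
    ∃ ψ : T ⟶ Q (J ⊔ Ideal.ofList rs),
      ψ ≫ pr (sup_le_sup_right le_sup_left (Ideal.ofList rs)) = φ := by
  obtain ⟨x, hx⟩ := surj_list T rs (le_sup_left : J ≤ J ⊔ Ideal.span {t}) h1 h2 hT
    (surj_base T ht _ hv) (Ext.mk₀ φ)
  obtain ⟨ψ, rfl⟩ := (Ext.mk₀_bijective T (Q (J ⊔ Ideal.ofList rs))).2 x
  rw [α_apply, Ext.mk₀_comp_mk₀] at hx
  exact ⟨ψ, (Ext.mk₀_bijective _ _).1 hx⟩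

/-- Elementwise form of the lifting lemma. -/
theorem exists_lift (I : Ideal R) (rs : List R) {J : Ideal R} {t : R} (ht : NZ J t)
    (h1 : RegOn J rs) (h2 : RegOn (J ⊔ Ideal.span {t}) rs) (hI : ∀ r ∈ rs, r ∈ I)
    (hv : ∀ x : Ext.{u} (ModuleCat.of R (R ⧸ I)) (Q J) (rs.length + 1), x = 0)
    (y : R) (hy : ∀ a ∈ I, a * y ∈ J ⊔ Ideal.span {t} ⊔ Ideal.ofList rs) :
    ∃ y' : R, (∀ a ∈ I, a * y' ∈ J ⊔ Ideal.ofList rs) ∧
      y' - y ∈ J ⊔ Ideal.span {t} ⊔ Ideal.ofList rs := by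
  have hT : ∀ r ∈ rs, r • 𝟙 (ModuleCat.of R (R ⧸ I)) = 0 := by
    intro r hr
    refine ModuleCat.hom_ext (LinearMap.ext fun x => ?_)
    obtain ⟨x, rfl⟩ := Ideal.Quotient.mk_surjective x
    change Ideal.Quotient.mk I (r * x) = 0
    rw [Ideal.Quotient.eq_zero_iff_mem]
    exact I.mul_mem_right _ (hI r hr)
  let φ : (R ⧸ I) →ₗ[R] (R ⧸ (J ⊔ Ideal.span {t} ⊔ Ideal.ofList rs)) :=
    Submodule.liftQ I (LinearMap.toSpanSingleton R _ (Ideal.Quotient.mk _ y)) (by
      intro a ha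
      rw [LinearMap.mem_ker, LinearMap.toSpanSingleton_apply]
      change Ideal.Quotient.mk _ (a * y) = 0
      rw [Ideal.Quotient.eq_zero_iff_mem]
      exact hy a ha)
  obtain ⟨ψ, hψ⟩ := exists_lift_hom _ rs ht h1 h2 hT hv (ModuleCat.ofHom φ)
  obtain ⟨y', hy'⟩ := Ideal.Quotient.mk_surjective (ψ.hom (Ideal.Quotient.mk I 1))
  refine ⟨y', fun a ha => ?_, ?_⟩
  · have h3 : ψ.hom (Ideal.Quotient.mk I (a * 1)) = a • ψ.hom (Ideal.Quotient.mk I 1) :=
      ψ.hom.map_smul a (Ideal.Quotient.mk I 1)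
    rw [← hy', mul_one, Ideal.Quotient.eq_zero_iff_mem.2 ha, map_zero] at h3
    rw [← Ideal.Quotient.eq_zero_iff_mem]
    exact h3.symm
  · have h4 : (ψ ≫ pr (sup_le_sup_right le_sup_left (Ideal.ofList rs))).hom
        (Ideal.Quotient.mk I 1) = φ (Ideal.Quotient.mk I 1) := by
      rw [hψ]
      rfl
    have h5 : (ψ ≫ pr (sup_le_sup_right le_sup_left (Ideal.ofList rs))).hom
        (Ideal.Quotient.mk I 1) = Ideal.Quotient.mk (J ⊔ Ideal.span {t} ⊔ Ideal.ofList rs) y' := by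
      change (pr (sup_le_sup_right le_sup_left (Ideal.ofList rs))).hom
        (ψ.hom (Ideal.Quotient.mk I 1)) = _
      rw [← hy']
      rfl
    have h6 : φ (Ideal.Quotient.mk I 1) = Ideal.Quotient.mk (J ⊔ Ideal.span {t} ⊔ Ideal.ofList rs) y := by
      change (1 : R) • Ideal.Quotient.mk (J ⊔ Ideal.span {t} ⊔ Ideal.ofList rs) y = _
      rw [one_smul]
    rw [← Ideal.Quotient.mk_eq_mk_iff_sub_mem, ← h5, h4, h6]

/-- `R/J` modulo `r` is `R/(J,r)` -/
noncomputable def quotEquiv (J : Ideal R) (r : R) :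
    QuotSMulTop r (R ⧸ J) ≃ₗ[R] R ⧸ (J ⊔ Ideal.span {r}) :=
  LinearEquiv.ofBijective
    (Submodule.liftQ _ (Ideal.Quotient.factorₐ R
      (le_sup_left : J ≤ J ⊔ Ideal.span {r})).toLinearMap (by
        intro x hx
        rw [Submodule.mem_smul_pointwise_iff_exists] at hx
        obtain ⟨y, -, rfl⟩ := hx
        obtain ⟨y, rfl⟩ := Ideal.Quotient.mk_surjective y
        change Ideal.Quotient.mk _ (r * y) = 0
        rw [Ideal.Quotient.eq_zero_iff_mem]
        exact Ideal.mul_mem_right _ _ (Ideal.mem_sup_right (Ideal.mem_span_singleton_self r))))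
    (by
      constructor
      · rw [injective_iff_map_eq_zero]
        intro x hx
        obtain ⟨x, rfl⟩ := Submodule.Quotient.mk_surjective _ x
        obtain ⟨x, rfl⟩ := Ideal.Quotient.mk_surjective x
        have hx' : Ideal.Quotient.mk (J ⊔ Ideal.span {r}) x = 0 := hx
        rw [Ideal.Quotient.eq_zero_iff_mem, Submodule.mem_sup] at hx'
        obtain ⟨a, ha, b, hb, rfl⟩ := hx'
        obtain ⟨c, rfl⟩ := Ideal.mem_span_singleton'.1 hb
        rw [Submodule.Quotient.mk_eq_zero, Submodule.mem_smul_pointwise_iff_exists]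
        refine ⟨Ideal.Quotient.mk J c, trivial, ?_⟩
        change Ideal.Quotient.mk J (r * c) = Ideal.Quotient.mk J (a + c * r)
        rw [Ideal.Quotient.mk_eq_mk_iff_sub_mem]
        have : r * c - (a + c * r) = -a := by ring
        rw [this]
        exact J.neg_mem ha
      · intro x
        obtain ⟨x, rfl⟩ := Ideal.Quotient.mk_surjective x
        exact ⟨Submodule.Quotient.mk (Ideal.Quotient.mk J x), rfl⟩)

theorem nz_iff (J : Ideal R) (r : R) : NZ J r ↔ IsSMulRegular (R ⧸ J) r := by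
  constructor
  · intro h
    rw [isSMulRegular_iff_right_eq_zero_of_smul]
    intro x hx
    obtain ⟨x, rfl⟩ := Ideal.Quotient.mk_surjective x
    have hx' : Ideal.Quotient.mk J (r * x) = 0 := hx
    rw [Ideal.Quotient.eq_zero_iff_mem] at hx' ⊢
    exact h x hx'
  · intro h x hx
    rw [isSMulRegular_iff_right_eq_zero_of_smul] at h
    rw [← Ideal.Quotient.eq_zero_iff_mem] at hx ⊢
    exact h _ hx

theorem regOn_iff : ∀ (rs : List R) (J : Ideal R),
    RegOn J rs ↔ RingTheory.Sequence.IsWeaklyRegular (R ⧸ J) rs := by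
  intro rs
  induction rs with
  | nil => intro J; simp [RegOn, RingTheory.Sequence.IsWeaklyRegular.nil]
  | cons r rs ih =>
    intro J
    rw [RingTheory.Sequence.isWeaklyRegular_cons_iff, RegOn, nz_iff, ih,
      (quotEquiv J r).isWeaklyRegular_congr]

theorem regOn_bot_iff (rs : List R) :
    RegOn (⊥ : Ideal R) rs ↔ RingTheory.Sequence.IsWeaklyRegular R rs := by
  rw [regOn_iff]
  exact (Submodule.quotEquivOfEqBot (⊥ : Ideal R) rfl).isWeaklyRegular_congr rs

/-- Elementwise form of the lifting lemma, `J = 0`. -/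
theorem exists_lift_bot (I : Ideal R) (rs : List R) {t : R}
    (h1 : RingTheory.Sequence.IsWeaklyRegular R rs)
    (h2 : RingTheory.Sequence.IsWeaklyRegular R (t :: rs)) (hI : ∀ r ∈ rs, r ∈ I)
    (hv : Subsingleton (Ext.{u} (ModuleCat.of R (R ⧸ I)) (ModuleCat.of R R) (rs.length + 1)))
    (y : R) (hy : ∀ a ∈ I, a * y ∈ Ideal.ofList (t :: rs)) :
    ∃ y' : R, (∀ a ∈ I, a * y' ∈ Ideal.ofList rs) ∧ y' - y ∈ Ideal.ofList (t :: rs) := by
  have h3 := (regOn_bot_iff (t :: rs)).2 h2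
  have e1 : (⊥ : Ideal R) ⊔ Ideal.span {t} ⊔ Ideal.ofList rs = Ideal.ofList (t :: rs) := by
    rw [Ideal.ofList_cons, bot_sup_eq]
  have e2 : (⊥ : Ideal R) ⊔ Ideal.ofList rs = Ideal.ofList rs := bot_sup_eq _
  have hv' : ∀ x : Ext.{u} (ModuleCat.of R (R ⧸ I)) (Q (⊥ : Ideal R)) (rs.length + 1), x = 0 := by
    intro x
    have e : Q (⊥ : Ideal R) ≅ ModuleCat.of R R :=
      (Submodule.quotEquivOfEqBot (⊥ : Ideal R) rfl).toModuleIso
    refine (bijective_of_isIso (ModuleCat.of R (R ⧸ I)) e.hom (rs.length + 1)).1 ?_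
    exact Subsingleton.elim _ _
  have := exists_lift I rs h3.1 ((regOn_bot_iff rs).2 h1) h3.2 hI hv' y (by rw [e1]; exact hy)
  rwa [e1, e2] at this

/-- Over a regular local ring of dimension `n + k`, a module with a (weakly) regular sequence of length `k`
in the maximal ideal has projective dimension at most `n`. -/
theorem hasProjectiveDimensionLT_of_regular (R : Type u) [CommRing R] [IsRegularLocalRing R]
    (M : Type u) [AddCommGroup M] [Module R M] [Module.Finite R M] (n : ℕ) (us : List R)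
    (hd : ringKrullDim R = ((n + us.length : ℕ) : WithBot ℕ∞))
    (hreg : RingTheory.Sequence.IsWeaklyRegular M us)
    (hus : ∀ u ∈ us, u ∈ IsLocalRing.maximalIdeal R) :
    HasProjectiveDimensionLT (ModuleCat.of R M) (n + 1) := by
  rcases subsingleton_or_nontrivial M with hM | hM
  · exact CalgA.RegProjDim.PD.of_subsingleton
  have h1 := ModuleCat.projectiveDimension_quotient_eq_add_length_of_isWeaklyRegular
    (ModuleCat.of R M) us hreg hus
  have h2 : HasProjectiveDimensionLT (ModuleCat.of R (M ⧸ Ideal.ofList us • (⊤ : Submodule R M)))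
      (n + us.length + 1) := CalgA.RegSerre.PD_of_isRegularLocalRing R _ hd _
  have h3 := (projectiveDimension_le_iff _ (n + us.length)).2 h2
  rw [h1] at h3
  refine (projectiveDimension_le_iff (ModuleCat.of R M) n).1 ?_
  generalize projectiveDimension (ModuleCat.of R M) = d at h3 ⊢
  induction d using WithBot.recBotCoe with
  | bot => exact bot_le
  | coe d =>
    induction d using ENat.recTopCoe with
    | top =>
      have h4 : ((⊤ : ℕ∞) : WithBot ℕ∞) + ((us.length : ℕ) : WithBot ℕ∞) = ((⊤ : ℕ∞) : WithBot ℕ∞) := rfl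
      rw [h4] at h3
      have h5 : ((⊤ : ℕ∞) : WithBot ℕ∞) ≤ (((n + us.length : ℕ) : ℕ∞) : WithBot ℕ∞) := h3
      rw [WithBot.coe_le_coe, top_le_iff] at h5
      exact absurd h5 (ENat.natCast_ne_top _)
    | coe d => exact_mod_cast Nat.le_of_add_le_add_right (by exact_mod_cast h3)

/-- **Lifting lemma over a regular local ring.** -/
theorem exists_lift_of_isRegularLocalRing (R : Type u) [CommRing R] [IsRegularLocalRing R]
    (I : Ideal R) (rs us : List R)
    (hd : ringKrullDim R = ((rs.length + us.length : ℕ) : WithBot ℕ∞)) {t : R}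
    (h1 : RingTheory.Sequence.IsWeaklyRegular R rs)
    (h2 : RingTheory.Sequence.IsWeaklyRegular R (t :: rs)) (hI : ∀ r ∈ rs, r ∈ I)
    (hu : RingTheory.Sequence.IsWeaklyRegular (R ⧸ I) us)
    (hus : ∀ u ∈ us, u ∈ IsLocalRing.maximalIdeal R)
    (y : R) (hy : ∀ a ∈ I, a * y ∈ Ideal.ofList (t :: rs)) :
    ∃ y' : R, (∀ a ∈ I, a * y' ∈ Ideal.ofList rs) ∧ y' - y ∈ Ideal.ofList (t :: rs) := by
  refine exists_lift_bot I rs h1 h2 hI ?_ y hy
  have h3 := hasProjectiveDimensionLT_of_regular R (R ⧸ I) rs.length us hd hu hus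
  exact ⟨fun a b => by
    rw [Ext.eq_zero_of_hasProjectiveDimensionLT a (rs.length + 1) le_rfl,
      Ext.eq_zero_of_hasProjectiveDimensionLT b (rs.length + 1) le_rfl]⟩

end Groth.Agent.Ega4dB.ExtLift
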