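import Mathlib
import Groth.Agent.Ega4dB.DepthOpen
import Groth.Agent.Ega4dB.FiberDepth

/-!
# The fibre of a module over a prime, and regular sequences on it

`A → B` a ring map, `p` a prime of `A`, `M` a `B`-module. `M ⊗[A] κ(p)` is the localisation of
`M ⧸ pM` at `A ∖ p`.
-/

set_option autoImplicit false

open TensorProduct LocCoh RingTheory.Sequence Pointwise

namespace Groth.Agent.Ega4dB.FibreAlg

section Res

variable {A : Type*} [CommRing A] (p : Ideal A) [p.IsPrime]

instance isLocalizedModule_residueField :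
    IsLocalizedModule p.primeCompl
      ((Algebra.linearMap (A ⧸ p) p.ResidueField).restrictScalars A) where
  map_units s := by
    rw [Module.End.isUnit_iff]
    have h0 : algebraMap A p.ResidueField s ≠ 0 := by
      rw [Ne, Ideal.algebraMap_residueField_eq_zero]
      exact s.2
    have h : ∀ x : p.ResidueField, algebraMap A (Module.End A p.ResidueField) s x =
        algebraMap A p.ResidueField s * x := by
      intro x
      rw [Module.algebraMap_end_apply, Algebra.smul_def]
    constructor
    · intro x y hxy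
      rw [h, h] at hxy
      exact mul_left_cancel₀ h0 hxy
    · intro y
      refine ⟨(algebraMap A p.ResidueField s)⁻¹ * y, ?_⟩
      rw [h, mul_inv_cancel_left₀ h0]
  surj y := by
    obtain ⟨a, b, hb, rfl⟩ := IsFractionRing.div_surjective (A := A ⧸ p) y
    obtain ⟨b, rfl⟩ := Ideal.Quotient.mk_surjective b
    have hb' : b ∈ p.primeCompl := by
      intro hbp
      exact nonZeroDivisors.ne_zero hb (Ideal.Quotient.eq_zero_iff_mem.mpr hbp)
    refine ⟨(a, ⟨b, hb'⟩), ?_⟩
    have h0 : algebraMap (A ⧸ p) p.ResidueField (Ideal.Quotient.mk p b) ≠ 0 := by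
      intro h
      exact nonZeroDivisors.ne_zero hb
        ((IsFractionRing.injective (A ⧸ p) p.ResidueField) (by rw [h, map_zero]))
    simp only [LinearMap.coe_restrictScalars, Algebra.linearMap_apply]
    rw [Submonoid.smul_def, Algebra.smul_def, IsScalarTower.algebraMap_apply A (A ⧸ p) p.ResidueField]
    exact mul_div_cancel₀ _ h0
  exists_of_eq {x y} h := ⟨1, by
    rw [one_smul, one_smul]
    exact (IsFractionRing.injective (A ⧸ p) p.ResidueField) h⟩

end Res

section K

variable {A : Type*} {B : Type*} [CommRing A] [CommRing B] [Algebra A B]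
  (p : Ideal A) [p.IsPrime]
  (M : Type*) [AddCommGroup M] [Module A M] [Module B M] [IsScalarTower A B M]

theorem exists_smul_eq_tmul_one (y : M ⊗[A] p.ResidueField) :
    ∃ s ∉ p, ∃ m : M, s • y = m ⊗ₜ 1 := by
  have := IsLocalizedModule.rTensor (R := A) (A := A) (N := M) p.primeCompl
    ((Algebra.linearMap (A ⧸ p) p.ResidueField).restrictScalars A)
  obtain ⟨⟨x, s⟩, hx⟩ := IsLocalizedModule.surj p.primeCompl
    (AlgebraTensorModule.rTensor A M
      ((Algebra.linearMap (A ⧸ p) p.ResidueField).restrictScalars A)) (TensorProduct.comm A _ _ y)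
  obtain ⟨m, hm⟩ : ∃ m : M, x = (1 : A ⧸ p) ⊗ₜ m := by
    clear hx
    induction x with
    | zero => exact ⟨0, by simp⟩
    | add a b ha hb =>
      obtain ⟨a', rfl⟩ := ha
      obtain ⟨b', rfl⟩ := hb
      exact ⟨a' + b', by rw [tmul_add]⟩
    | tmul r m =>
      obtain ⟨r, rfl⟩ := Ideal.Quotient.mk_surjective r
      refine ⟨r • m, ?_⟩
      rw [← TensorProduct.smul_tmul]
      congr 1
      rw [Algebra.smul_def, mul_one]
      rfl
  refine ⟨s, s.2, m, ?_⟩
  apply (TensorProduct.comm A M p.ResidueField).injective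
  rw [map_smul]
  simp only at hx
  rw [← Submonoid.smul_def, hx, hm]
  simp

theorem tmul_one_eq_zero_iff (m : M) :
    m ⊗ₜ[A] (1 : p.ResidueField) = 0 ↔
      ∃ s ∉ p, s • m ∈ (p.map (algebraMap A B) • ⊤ : Submodule B M) := by
  have hsub : ∀ m : M, (1 : A ⧸ p) ⊗ₜ[A] m = 0 ↔
      m ∈ (p.map (algebraMap A B) • ⊤ : Submodule B M) := by
    intro m
    have h6 : (1 : A ⧸ p) ⊗ₜ[A] m = 0 ↔ m ∈ LinearMap.ker (TensorProduct.mk A (A ⧸ p) M 1) := Iff.rfl
    rw [h6, LinearMap.ker_tensorProductMk]
    have := Ideal.smul_restrictScalars (S := B) p (⊤ : Submodule B M)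
    rw [Submodule.restrictScalars_top] at this
    rw [← this, Submodule.restrictScalars_mem]
  constructor
  · intro h
    have := IsLocalizedModule.rTensor (R := A) (A := A) (N := M) p.primeCompl
      ((Algebra.linearMap (A ⧸ p) p.ResidueField).restrictScalars A)
    have h1 : (AlgebraTensorModule.rTensor A M
      ((Algebra.linearMap (A ⧸ p) p.ResidueField).restrictScalars A)) ((1 : A ⧸ p) ⊗ₜ m) = 0 := by
      have h2 := congrArg (TensorProduct.comm A M p.ResidueField) h
      simpa using h2
    rw [IsLocalizedModule.eq_zero_iff p.primeCompl] at h1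
    obtain ⟨s, hs⟩ := h1
    refine ⟨s, s.2, ?_⟩
    rw [← hsub, ← TensorProduct.smul_tmul, ← TensorProduct.smul_tmul']
    rw [Submonoid.smul_def] at hs
    exact hs
  · rintro ⟨s, hs, hm⟩
    rw [← hsub] at hm
    have h2 := congrArg (LinearMap.rTensor M
      ((Algebra.linearMap (A ⧸ p) p.ResidueField).restrictScalars A)) hm
    rw [LinearMap.rTensor_tmul, map_zero] at h2
    have h3 : s • ((1 : p.ResidueField) ⊗ₜ[A] m) = 0 := by
      rw [← TensorProduct.tmul_smul]
      simpa using h2
    have h0 : algebraMap A p.ResidueField s ≠ 0 := by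
      rw [Ne, Ideal.algebraMap_residueField_eq_zero]
      exact hs
    have h4 : m ⊗ₜ[A] (algebraMap A p.ResidueField s) = 0 := by
      have h5 := congrArg (TensorProduct.comm A p.ResidueField M) h3
      rw [map_smul, TensorProduct.comm_tmul, map_zero, ← TensorProduct.tmul_smul, Algebra.smul_def,
        mul_one] at h5
      exact h5
    have h5 := congrArg (LinearMap.lTensor M
      (LinearMap.mulRight A (algebraMap A p.ResidueField s)⁻¹)) h4
    rw [LinearMap.lTensor_tmul, map_zero, LinearMap.mulRight_apply, mul_inv_cancel₀ h0] at h5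
    exact h5

end K

section General

variable {B : Type*} {R : Type*} [CommRing B] [CommRing R] [Algebra B R]

/-- Depth at a prime `Q` of `R` can be computed at its contraction `q` in `B`, if `B → R` is
essentially surjective at `Q`. -/
theorem depth_eq_of_essSurj (Q : Ideal R) [Q.IsPrime] (q : Ideal B) [q.IsPrime]
    (hq : q = Q.comap (algebraMap B R))
    (hsurj : ∀ r : R, ∃ s b : B, s ∉ q ∧ algebraMap B R s * r = algebraMap B R b)
    {N : Type*} [AddCommGroup N] [Module B N] {T : Type*} [AddCommGroup T] [Module B T]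
    [Module R T] [IsScalarTower B R T] [Module (Localization.AtPrime Q) T]
    [IsScalarTower R (Localization.AtPrime Q) T]
    (g : N →ₗ[B] T) [IsLocalizedModule q.primeCompl g] :
    depth (Localization.AtPrime Q) T =
      depth (Localization.AtPrime q) (LocalizedModule q.primeCompl N) := by
  let φ : Localization.AtPrime q →+* Localization.AtPrime Q :=
    Localization.localRingHom q Q (algebraMap B R) hq
  have hφ : ∀ b : B, φ (algebraMap B _ b) = algebraMap R _ (algebraMap B R b) := fun b => by
    rw [Localization.localRingHom_to_map]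
  have hφs : Function.Surjective φ := by
    intro y
    obtain ⟨r, t, rfl⟩ := IsLocalization.exists_mk'_eq Q.primeCompl y
    obtain ⟨s, b, hs, hb⟩ := hsurj r
    obtain ⟨s', b', hs', hb'⟩ := hsurj t
    have hb'q : b' ∉ q := by
      intro h
      rw [hq, Ideal.mem_comap, ← hb'] at h
      rcases ‹Q.IsPrime›.mem_or_mem h with h | h
      · exact hs' (by rw [hq]; exact h)
      · exact t.2 h
    let d : q.primeCompl := ⟨b' * s, q.primeCompl.mul_mem hb'q hs⟩
    refine ⟨IsLocalization.mk' _ (b * s') d, ?_⟩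
    have hu : IsUnit (algebraMap R (Localization.AtPrime Q) (algebraMap B R (b' * s))) :=
      IsLocalization.map_units (Localization.AtPrime Q) (⟨algebraMap B R (b' * s), by
        intro h
        exact (q.primeCompl.mul_mem hb'q hs) (by rw [hq]; exact h)⟩ : Q.primeCompl)
    apply hu.mul_left_cancel
    rw [← hφ, ← map_mul]
    have : algebraMap B (Localization.AtPrime q) (b' * s) *
        IsLocalization.mk' (Localization.AtPrime q) (b * s') d = algebraMap B _ (b * s') :=
      IsLocalization.mk'_spec' _ _ d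
    rw [this, hφ, hφ, map_mul (algebraMap B R), map_mul (algebraMap B R), ← hb, ← hb']
    have h2 : algebraMap R (Localization.AtPrime Q) t *
        IsLocalization.mk' (Localization.AtPrime Q) r t = algebraMap R _ r :=
      IsLocalization.mk'_spec' _ _ t
    simp only [map_mul]
    rw [← h2]
    ring
  let : Module (Localization.AtPrime q) T := Module.compHom T φ
  have hsm : ∀ (a : Localization.AtPrime q) (t : T), a • t = φ a • t := fun _ _ => rfl
  have : IsScalarTower B (Localization.AtPrime q) T := IsScalarTower.of_algebraMap_smul (by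
    intro b t
    rw [hsm, hφ, algebraMap_smul, algebraMap_smul])
  let e := (IsLocalizedModule.iso q.primeCompl g).extendScalarsOfIsLocalization q.primeCompl
    (Localization.AtPrime q)
  symm
  exact FiberDepth.depth_eq_of_semilinear φ hφs e.toAddEquiv (fun r n => e.map_smul r n)

end General

section FibreRing

variable {A : Type*} {B : Type*} [CommRing A] [CommRing B] [Algebra A B]
  (p : Ideal A) [p.IsPrime]
  (M : Type*) [AddCommGroup M] [Module B M]

/-- The fibre ring. -/
abbrev FR (B : Type*) [CommRing B] [Algebra A B] (p : Ideal A) [p.IsPrime] : Type _ :=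
  B ⊗[A] p.ResidueField

theorem isUnit_algebraMap_FR {s : A} (hs : s ∉ p) : IsUnit (algebraMap A (FR B p) s) := by
  have h0 : algebraMap A p.ResidueField s ≠ 0 := by
    rw [Ne, Ideal.algebraMap_residueField_eq_zero]
    exact hs
  have h1 : IsUnit (algebraMap A p.ResidueField s) := h0.isUnit
  have h2 := h1.map (Algebra.TensorProduct.includeRight : p.ResidueField →ₐ[A] FR B p)
  rwa [AlgHom.commutes] at h2

theorem exists_mul_eq_algebraMap (r : FR B p) :
    ∃ s ∉ p, ∃ b : B, algebraMap A (FR B p) s * r = algebraMap B (FR B p) b := by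
  obtain ⟨s, hs, b, h⟩ := exists_smul_eq_tmul_one p B r
  refine ⟨s, hs, b, ?_⟩
  rw [← Algebra.smul_def, h]
  rfl

variable [Module A M] [IsScalarTower A B M]

/-- the fibre module as a module over the fibre ring -/
abbrev FM : Type _ := FR B p ⊗[B] M

/-- `FM ≃ M ⊗[A] κ(p)` -/
noncomputable def fmEquiv : FM (B := B) p M ≃ₗ[B] M ⊗[A] p.ResidueField :=
  (TensorProduct.comm B (FR B p) M).trans
    (AlgebraTensorModule.cancelBaseChange A B B M p.ResidueField)

theorem fmEquiv_one_tmul (m : M) : fmEquiv (B := B) p M (1 ⊗ₜ m) = m ⊗ₜ 1 := by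
  unfold fmEquiv
  rw [LinearEquiv.trans_apply, TensorProduct.comm_tmul]
  change AlgebraTensorModule.cancelBaseChange A B B M p.ResidueField (m ⊗ₜ (1 ⊗ₜ 1)) = _
  rw [AlgebraTensorModule.cancelBaseChange_tmul, one_smul]

theorem exists_smul_FM (y : FM (B := B) p M) :
    ∃ s ∉ p, ∃ m : M, algebraMap A B s • y = (1 : FR B p) ⊗ₜ[B] m := by
  obtain ⟨s, hs, m, h⟩ := exists_smul_eq_tmul_one p M (fmEquiv (B := B) p M y)
  refine ⟨s, hs, m, ?_⟩
  apply (fmEquiv (B := B) p M).injective
  rw [map_smul, fmEquiv_one_tmul, ← h, algebraMap_smul]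

theorem one_tmul_FM_eq_zero_iff (m : M) :
    (1 : FR B p) ⊗ₜ[B] m = 0 ↔
      ∃ s ∉ p, algebraMap A B s • m ∈ (p.map (algebraMap A B) • ⊤ : Submodule B M) := by
  rw [← (fmEquiv (B := B) p M).map_eq_zero_iff, fmEquiv_one_tmul, tmul_one_eq_zero_iff (B := B)]
  simp only [algebraMap_smul]

/-- `M/pM → FM`. -/
noncomputable def toFM : (M ⧸ (p.map (algebraMap A B) • ⊤ : Submodule B M)) →ₗ[B]
    FM (B := B) p M :=
  Submodule.liftQ _ (TensorProduct.mk B (FR B p) M 1) (by
    intro m hm
    rw [LinearMap.mem_ker, TensorProduct.mk_apply, one_tmul_FM_eq_zero_iff]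
    exact ⟨1, fun h => ‹p.IsPrime›.ne_top ((Ideal.eq_top_iff_one p).mpr h), by simpa using hm⟩)

@[simp] theorem toFM_mk (m : M) : toFM (B := B) p M (Submodule.Quotient.mk m) = 1 ⊗ₜ m := rfl

/-- If `A ∖ p` maps to `S`, then `T` is the localization of `M/pM` at `S` as soon as it is one of
the fibre module. -/
theorem isLocalizedModule_comp_toFM (S : Submonoid B) (hS : ∀ s ∉ p, algebraMap A B s ∈ S)
    {T : Type*} [AddCommMonoid T] [Module B T] (g : FM (B := B) p M →ₗ[B] T)
    [IsLocalizedModule S g] : IsLocalizedModule S (g ∘ₗ toFM (B := B) p M) where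
  map_units s := IsLocalizedModule.map_units g s
  surj y := by
    obtain ⟨⟨x, t⟩, hx⟩ := IsLocalizedModule.surj S g y
    obtain ⟨s, hs, m, hm⟩ := exists_smul_FM p M x
    refine ⟨(Submodule.Quotient.mk m, ⟨algebraMap A B s, hS s hs⟩ * t), ?_⟩
    rw [LinearMap.comp_apply, toFM_mk, ← hm, mul_smul, map_smul]
    simp only at hx
    rw [← hx]
    rfl
  exists_of_eq {x y} h := by
    obtain ⟨c, hc⟩ := IsLocalizedModule.exists_of_eq (S := S) (f := g) h
    obtain ⟨m, hm⟩ := Submodule.Quotient.mk_surjective _ (x - y)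
    have h1 : (1 : FR B p) ⊗ₜ[B] ((c : B) • m) = 0 := by
      rw [← TensorProduct.smul_tmul, ← TensorProduct.smul_tmul', ← toFM_mk, hm, map_sub, smul_sub,
        sub_eq_zero]
      exact hc
    obtain ⟨s, hs, hsm⟩ := (one_tmul_FM_eq_zero_iff p M _).mp h1
    refine ⟨⟨algebraMap A B s, hS s hs⟩ * c, ?_⟩
    rw [← sub_eq_zero]
    change (algebraMap A B s * (c : B)) • x - (algebraMap A B s * (c : B)) • y = 0
    rw [← smul_sub, ← hm, mul_smul]
    change Submodule.Quotient.mk (algebraMap A B s • (c : B) • m) = _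
    exact (Submodule.Quotient.mk_eq_zero _).mpr hsm

end FibreRing

section Unit

variable {R : Type*} [CommRing R]

theorem isWeaklyRegular_of_unit_mul {rs ss : List R}
    (h : List.Forall₂ (fun a b => ∃ u : R, IsUnit u ∧ u * a = b) rs ss) {M : Type*} [AddCommGroup M]
    [Module R M] (hr : IsWeaklyRegular M rs) : IsWeaklyRegular M ss := by
  induction h generalizing M with
  | nil => exact IsWeaklyRegular.nil R M
  | @cons a b l l' hab _ ih =>
    obtain ⟨u, hu, rfl⟩ := hab
    rw [isWeaklyRegular_cons_iff] at hr ⊢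
    refine ⟨(hu.isSMulRegular M).mul hr.1, ?_⟩
    have h2 := ih hr.2
    have he : (u * a) • (⊤ : Submodule R M) = a • (⊤ : Submodule R M) := by
      obtain ⟨v, rfl⟩ := hu
      apply le_antisymm
      · intro x hx
        obtain ⟨y, _, rfl⟩ := (Submodule.mem_smul_pointwise_iff_exists _ _ _).mp hx
        exact (Submodule.mem_smul_pointwise_iff_exists _ _ _).mpr
          ⟨(v : R) • y, trivial, by rw [smul_smul, mul_comm]⟩
      · intro x hx
        obtain ⟨y, _, rfl⟩ := (Submodule.mem_smul_pointwise_iff_exists _ _ _).mp hx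
        refine (Submodule.mem_smul_pointwise_iff_exists _ _ _).mpr
          ⟨((v⁻¹ : Rˣ) : R) • y, trivial, ?_⟩
        rw [smul_smul, mul_right_comm, Units.mul_inv, one_mul]
    let e : QuotSMulTop (u * a) M ≃ₗ[R] QuotSMulTop a M := Submodule.quotEquivOfEq _ _ he
    exact (e.isWeaklyRegular_congr l').mpr h2

end Unit

section Fib

variable {A : Type*} {B : Type*} [CommRing A] [CommRing B] [Algebra A B]
  (p : Ideal A) [p.IsPrime]
  (M : Type*) [AddCommGroup M] [Module B M] [Module A M] [IsScalarTower A B M]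

theorem isNoetherianRing_FR [Algebra.FiniteType A B] : IsNoetherianRing (FR B p) := by
  have : IsNoetherianRing (p.ResidueField ⊗[A] B) :=
    Algebra.FiniteType.isNoetherianRing p.ResidueField _
  exact isNoetherianRing_of_ringEquiv (p.ResidueField ⊗[A] B)
    (Algebra.TensorProduct.comm A p.ResidueField B).toRingEquiv

/-- the prime of the fibre ring over a prime of `B` over `p` -/
theorem exists_prime_FR (q : Ideal B) [q.IsPrime] (hq : q.comap (algebraMap A B) = p) :
    ∃ Q : Ideal (FR B p), Q.IsPrime ∧ Q.comap (algebraMap B (FR B p)) = q := by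
  let g : p.ResidueField →ₐ[A] q.ResidueField :=
    Ideal.ResidueField.mapₐ p q (Algebra.ofId A B) hq.symm
  let θ : FR B p →ₐ[A] q.ResidueField :=
    Algebra.TensorProduct.productMap (IsScalarTower.toAlgHom A B q.ResidueField) g
  refine ⟨RingHom.ker θ, RingHom.ker_isPrime θ.toRingHom, ?_⟩
  ext b
  rw [Ideal.mem_comap, RingHom.mem_ker]
  have : θ (algebraMap B (FR B p) b) = algebraMap B q.ResidueField b := by
    change θ (b ⊗ₜ 1) = _
    rw [Algebra.TensorProduct.productMap_left_apply]
    rfl
  rw [this, Ideal.algebraMap_residueField_eq_zero]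

theorem comap_comap_FR (Q : Ideal (FR B p)) [Q.IsPrime] :
    (Q.comap (algebraMap B (FR B p))).comap (algebraMap A B) = p := by
  rw [Ideal.comap_comap, ← IsScalarTower.algebraMap_eq]
  ext a
  rw [Ideal.mem_comap]
  constructor
  · intro h
    by_contra ha
    exact ‹Q.IsPrime›.ne_top (Ideal.eq_top_of_isUnit_mem _ h (isUnit_algebraMap_FR p ha))
  · intro h
    have : algebraMap A (FR B p) a = 0 := by
      rw [Algebra.TensorProduct.algebraMap_apply, Algebra.TensorProduct.tmul_one_eq_one_tmul]
      rw [(Ideal.algebraMap_residueField_eq_zero).mpr h, tmul_zero]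
    rw [this]
    exact Q.zero_mem

theorem exists_of_mem_map (I : Ideal B) (r : FR B p) (hr : r ∈ I.map (algebraMap B (FR B p))) :
    ∃ s ∉ p, ∃ b ∈ I, algebraMap A (FR B p) s * r = algebraMap B (FR B p) b := by
  refine Submodule.span_induction (p := fun r _ => ∃ s ∉ p, ∃ b ∈ I,
    algebraMap A (FR B p) s * r = algebraMap B (FR B p) b) ?_ ?_ ?_ ?_ hr
  · rintro _ ⟨b, hb, rfl⟩
    exact ⟨1, fun h => ‹p.IsPrime›.ne_top ((Ideal.eq_top_iff_one p).mpr h), b, hb, by simp⟩
  · exact ⟨1, fun h => ‹p.IsPrime›.ne_top ((Ideal.eq_top_iff_one p).mpr h), 0, I.zero_mem, by simp⟩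
  · rintro x y _ _ ⟨s, hs, b, hb, h⟩ ⟨s', hs', b', hb', h'⟩
    refine ⟨s * s', p.primeCompl.mul_mem hs hs', algebraMap A B s' * b + algebraMap A B s * b',
      I.add_mem (I.mul_mem_left _ hb) (I.mul_mem_left _ hb'), ?_⟩
    rw [map_add, map_mul, map_mul, map_mul, ← h, ← h', ← IsScalarTower.algebraMap_apply,
      ← IsScalarTower.algebraMap_apply]
    ring
  · rintro a x _ ⟨s, hs, b, hb, h⟩
    obtain ⟨s', hs', b', h'⟩ := exists_mul_eq_algebraMap p a
    refine ⟨s' * s, p.primeCompl.mul_mem hs' hs, b' * b, I.mul_mem_left _ hb, ?_⟩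
    rw [map_mul, map_mul, ← h, ← h', smul_eq_mul]
    ring

/-- `M/pM → (FM)_Q` -/
noncomputable def toFMLoc (Q : Ideal (FR B p)) [Q.IsPrime] :
    (M ⧸ (p.map (algebraMap A B) • ⊤ : Submodule B M)) →ₗ[B]
      LocalizedModule Q.primeCompl (FM (B := B) p M) :=
  (LocalizedModule.mkLinearMap Q.primeCompl (FM (B := B) p M)).restrictScalars B ∘ₗ
    toFM (B := B) p M

theorem isLocalizedModule_fibre (Q : Ideal (FR B p)) [Q.IsPrime] (q : Ideal B) [q.IsPrime]
    (hq : q = Q.comap (algebraMap B (FR B p))) :
    IsLocalizedModule q.primeCompl (toFMLoc (B := B) p M Q) := by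
  let T := LocalizedModule Q.primeCompl (FM (B := B) p M)
  have h0 : ∀ (b : B) (t : T), algebraMap B (FR B p) b • t = b • t := fun b t =>
    algebraMap_smul (FR B p) b t
  let g : FM (B := B) p M →ₗ[B] T :=
    (LocalizedModule.mkLinearMap Q.primeCompl (FM (B := B) p M)).restrictScalars B
  have hg : IsLocalizedModule q.primeCompl g :=
    { map_units := by
        intro s
        have h1 : algebraMap B (FR B p) s ∈ Q.primeCompl := by
          intro h
          exact s.2 (hq.ge h)
        have h2 := IsLocalizedModule.map_units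
          (LocalizedModule.mkLinearMap Q.primeCompl (FM (B := B) p M)) ⟨_, h1⟩
        rw [Module.End.isUnit_iff] at h2 ⊢
        convert h2 using 1
        ext t
        exact (h0 s t).symm
      surj := by
        intro y
        obtain ⟨⟨x, t⟩, hx⟩ := IsLocalizedModule.surj Q.primeCompl
          (LocalizedModule.mkLinearMap Q.primeCompl (FM (B := B) p M)) y
        obtain ⟨s, hs, b, hb⟩ := exists_mul_eq_algebraMap p (t : FR B p)
        have hbq : b ∉ q := by
          intro h
          rw [hq, Ideal.mem_comap, ← hb] at h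
          rcases ‹Q.IsPrime›.mem_or_mem h with h | h
          · exact ‹Q.IsPrime›.ne_top (Ideal.eq_top_of_isUnit_mem _ h (isUnit_algebraMap_FR p hs))
          · exact t.2 h
        refine ⟨(algebraMap A (FR B p) s • x, ⟨b, hbq⟩), ?_⟩
        change b • y = LocalizedModule.mkLinearMap Q.primeCompl _ _
        rw [map_smul, ← h0, ← hb, mul_smul]
        congr 1
      exists_of_eq := by
        intro x y h
        obtain ⟨c, hc⟩ := IsLocalizedModule.exists_of_eq (S := Q.primeCompl)
          (f := LocalizedModule.mkLinearMap Q.primeCompl (FM (B := B) p M)) h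
        obtain ⟨s, hs, b, hb⟩ := exists_mul_eq_algebraMap p (c : FR B p)
        have hbq : b ∉ q := by
          intro h
          rw [hq, Ideal.mem_comap, ← hb] at h
          rcases ‹Q.IsPrime›.mem_or_mem h with h | h
          · exact ‹Q.IsPrime›.ne_top (Ideal.eq_top_of_isUnit_mem _ h (isUnit_algebraMap_FR p hs))
          · exact c.2 h
        refine ⟨⟨b, hbq⟩, ?_⟩
        change b • x = b • y
        rw [← algebraMap_smul (FR B p) b x, ← algebraMap_smul (FR B p) b y, ← hb, mul_smul, mul_smul]
        congr 1 }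
  have hS : ∀ s ∉ p, algebraMap A B s ∈ q.primeCompl := by
    intro s hs h
    have h1 := comap_comap_FR p Q
    rw [← hq] at h1
    exact hs (by rw [← h1]; exact h)
  exact isLocalizedModule_comp_toFM p M q.primeCompl hS g

/-- The depth of the fibre module at a prime of the fibre ring. -/
theorem depth_fibre_eq (Q : Ideal (FR B p)) [Q.IsPrime] (q : Ideal B) [q.IsPrime]
    (hq : q = Q.comap (algebraMap B (FR B p))) :
    depth (Localization.AtPrime Q) (LocalizedModule Q.primeCompl (FM (B := B) p M)) =
      depth (Localization.AtPrime q) (LocalizedModule q.primeCompl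
        (M ⧸ (p.map (algebraMap A B) • ⊤ : Submodule B M))) := by
  have := isLocalizedModule_fibre p M Q q hq
  exact depth_eq_of_essSurj (T := LocalizedModule Q.primeCompl (FM (B := B) p M)) Q q hq (fun r => by
    obtain ⟨s, hs, b, hb⟩ := exists_mul_eq_algebraMap p r
    refine ⟨algebraMap A B s, b, ?_, by rw [← hb, ← IsScalarTower.algebraMap_apply]⟩
    intro h
    have h1 := comap_comap_FR p Q
    rw [← hq] at h1
    exact hs (by rw [← h1]; exact h))
    (toFMLoc (B := B) p M Q)

/-- **Lemma Fib.** If the fibre module over `p` has depth `≥ n` at every generization of `q` in the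
fibre lying in `V(I)`, then `I` contains a sequence of length `n` which is weakly regular on the
fibre module at `q`. -/
theorem exists_isWeaklyRegular_fibre [Algebra.FiniteType A B] [Module.Finite B M]
    (I q : Ideal B) [q.IsPrime] (hq : q.comap (algebraMap A B) = p) (n : ℕ)
    (h : ∀ (q₁ : Ideal B) [q₁.IsPrime], I ≤ q₁ → q₁ ≤ q → q₁.comap (algebraMap A B) = p →
      (n : ℕ∞) ≤ depth (Localization.AtPrime q₁) (LocalizedModule q₁.primeCompl
        (M ⧸ (p.map (algebraMap A B) • ⊤ : Submodule B M)))) :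
    ∃ fs : List B, fs.length = n ∧ (∀ r ∈ fs, r ∈ I) ∧
      IsWeaklyRegular (LocalizedModule q.primeCompl
        (M ⧸ (p.map (algebraMap A B) • ⊤ : Submodule B M))) fs := by
  have := isNoetherianRing_FR (B := B) p
  obtain ⟨Q, hQ, hQq⟩ := exists_prime_FR p q hq
  obtain ⟨rs, hlen, hmem, hreg⟩ := DepthOpen.exists_isWeaklyRegular_localized
    (I.map (algebraMap B (FR B p))) Q (FM (B := B) p M) n (by
      intro Q₁ _ hI hle
      have h1 := h (Q₁.comap (algebraMap B (FR B p))) (Ideal.map_le_iff_le_comap.mp hI)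
        (by rw [← hQq]; exact Ideal.comap_mono hle) (comap_comap_FR p Q₁)
      rwa [← depth_fibre_eq p M Q₁ (Q₁.comap (algebraMap B (FR B p))) rfl] at h1)
  obtain ⟨fs, hfs, hfsI⟩ : ∃ fs : List B, List.Forall₂ (fun a b => ∃ u : FR B p, IsUnit u ∧ u * a =
      algebraMap B (FR B p) b) rs fs ∧ ∀ r ∈ fs, r ∈ I := by
    clear hlen hreg
    induction rs with
    | nil => exact ⟨[], List.Forall₂.nil, by simp⟩
    | cons a l ih =>
      obtain ⟨fs, hfs, hI⟩ := ih (fun r hr => hmem r (by simp [hr]))
      obtain ⟨s, hs, b, hb, hab⟩ := exists_of_mem_map p I a (hmem a (by simp))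
      exact ⟨b :: fs, List.Forall₂.cons ⟨_, isUnit_algebraMap_FR p hs, hab⟩ hfs,
        by simpa using ⟨hb, hI⟩⟩
  refine ⟨fs, by rw [← hlen, hfs.length_eq], hfsI, ?_⟩
  have hreg' := isWeaklyRegular_of_unit_mul (ss := fs.map (algebraMap B (FR B p)))
    (List.forall₂_map_right_iff.mpr hfs) hreg
  have := isLocalizedModule_fibre p M Q q hQq.symm
  let e := IsLocalizedModule.iso q.primeCompl (toFMLoc (B := B) p M Q)
  refine (e.toAddEquiv.isWeaklyRegular_congr (List.forall₂_map_right_iff.mpr <|
      List.forall₂_same.mpr fun r _ x => ?_)).mpr hreg'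
  change e (r • x) = algebraMap B (FR B p) r • e x
  rw [e.map_smul, algebraMap_smul]

end Fib

end Groth.Agent.Ega4dB.FibreAlg
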