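import Groth.Agent.Ega4dB.Wiebe854
import Groth.Agent.LoccohB.GorBasic
import Groth.Agent.Localalg.GorDepth
import Groth.Agent.S0342
import Mathlib.RingTheory.Nakayama
import Mathlib.RingTheory.KrullDimension.Regular

/-!
# Lifting homomorphisms into Gorenstein rings

`Ext1 S J`: every homomorphism `J → S` is a multiplication, i.e. `Ext¹(S/J, S) = 0`.
If `S` is a Gorenstein local ring and `S/J` is a maximal Cohen-Macaulay module then `Ext1 S J`.
-/

set_option autoImplicit false
universe u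

open CategoryTheory RingTheory.Sequence IsLocalRing

namespace Groth.Agent.Ega4dB.GorLift

open Wiebe854 Groth.Agent.LoccohB.GorBasic

/-- Every homomorphism `J → S` is a multiplication. -/
def Ext1 (S : Type u) [CommRing S] (J : Ideal S) : Prop :=
  ∀ φ : J →ₗ[S] S, ∃ y : S, ∀ j : J, φ j = y * j

/-- Base case: a self-injective ring. -/
theorem ext1_of_depth_zero {S : Type u} [CommRing S] [IsLocalRing S] [IsNoetherianRing S]
    (hS : FID S) (h : ∀ x ∈ maximalIdeal S, ¬ IsSMulRegular S x) (J : Ideal S) : Ext1 S J := by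
  obtain ⟨n, hn⟩ := hS
  have h1 := Groth.Agent.Localalg.GorDepth.hasInjectiveDimensionLT_one (ModuleCat.of S S) n hn h
  rw [← injective_iff_hasInjectiveDimensionLT_one, ← Module.injective_iff_injective_object,
    ← Module.Baer.iff_injective] at h1
  intro φ
  obtain ⟨g, hg⟩ := h1 J φ
  refine ⟨g 1, fun j => ?_⟩
  rw [← hg j j.2]
  have : g (j : S) = (j : S) • g 1 := by
    rw [← map_smul, smul_eq_mul, mul_one]
  rw [this, smul_eq_mul, mul_comm]

/-- Division by a nonzerodivisor. -/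
lemma exists_div {S : Type u} [CommRing S] {t : S} (ht : ∀ y, t * y = 0 → y = 0) {J : Ideal S}
    (φ : J →ₗ[S] S) (h : ∀ j, ∃ s, φ j = t * s) : ∃ ψ : J →ₗ[S] S, ∀ j, φ j = t * ψ j := by
  choose s hs using h
  have hinj : ∀ a b : S, t * a = t * b → a = b := by
    intro a b hab
    rw [← sub_eq_zero]
    apply ht
    rw [mul_sub, hab, sub_self]
  refine ⟨{ toFun := s, map_add' := fun a b => hinj _ _ ?_, map_smul' := fun a b => hinj _ _ ?_ },
    hs⟩
  · rw [← hs, map_add, mul_add, hs, hs]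
  · rw [← hs, map_smul, hs, smul_eq_mul, RingHom.id_apply, smul_eq_mul]
    ring

/-- Inductive step. -/
theorem ext1_of_quotient {S : Type u} [CommRing S] [IsLocalRing S] [IsNoetherianRing S] (t : S)
    (htm : t ∈ maximalIdeal S) (ht : ∀ y, t * y = 0 → y = 0) (J : Ideal S)
    (htJ : ∀ y, t * y ∈ J → y ∈ J)
    (h : Ext1 (S ⧸ Ideal.span {t}) (J.map (Ideal.Quotient.mk (Ideal.span {t})))) : Ext1 S J := by
  set π : S →+* S ⧸ Ideal.span {t} := Ideal.Quotient.mk _ with hπ
  have hπs : Function.Surjective π := Ideal.Quotient.mk_surjective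
  -- the submodule of multiplications
  let L : Submodule S (J →ₗ[S] S) :=
    LinearMap.range (LinearMap.toSpanSingleton S (J →ₗ[S] S) J.subtype)
  have hL : ∀ φ : J →ₗ[S] S, φ ∈ L ↔ ∃ y : S, ∀ j : J, φ j = y * j := by
    intro φ
    constructor
    · rintro ⟨y, rfl⟩
      exact ⟨y, fun j => rfl⟩
    · rintro ⟨y, hy⟩
      exact ⟨y, by ext j; exact (hy j).symm⟩
  have key : (⊤ : Submodule S (J →ₗ[S] S)) ≤ L ⊔ Ideal.span {t} • ⊤ := by
    intro φ _
    have hwd : ∀ j j' : J, π j = π j' → π (φ j) = π (φ j') := by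
      intro j j' hjj
      obtain ⟨s, hs⟩ := Ideal.mem_span_singleton'.1 (Ideal.Quotient.eq.1 hjj)
      have hsJ : s ∈ J := by
        apply htJ
        rw [mul_comm, hs]
        exact J.sub_mem j.2 j'.2
      rw [hπ, Ideal.Quotient.eq, ← map_sub, Ideal.mem_span_singleton']
      refine ⟨φ ⟨s, hsJ⟩, ?_⟩
      have : j - j' = t • (⟨s, hsJ⟩ : J) := by
        ext
        simp only [AddSubgroupClass.coe_sub, SetLike.mk_smul_mk, smul_eq_mul]
        rw [← hs, mul_comm]
      rw [this, map_smul, smul_eq_mul, mul_comm]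
    have hex : ∀ x : J.map π, ∃ j : J, π j = x := by
      rintro ⟨x, hx⟩
      obtain ⟨j, hj, rfl⟩ := (Ideal.mem_map_iff_of_surjective π hπs).1 hx
      exact ⟨⟨j, hj⟩, rfl⟩
    choose c hc using hex
    let φ' : J.map π →ₗ[S ⧸ Ideal.span {t}] S ⧸ Ideal.span {t} :=
      { toFun := fun x => π (φ (c x))
        map_add' := fun a b => by
          rw [← map_add π, ← map_add φ]
          refine hwd _ _ ?_
          rw [hc]
          simp only [Submodule.coe_add, map_add, hc]
        map_smul' := fun a b => by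
          obtain ⟨a, rfl⟩ := hπs a
          rw [RingHom.id_apply, smul_eq_mul, ← map_mul π, ← smul_eq_mul a, ← map_smul φ]
          refine hwd _ _ ?_
          rw [hc]
          simp only [Submodule.coe_smul, smul_eq_mul, map_mul, hc] }
    obtain ⟨y, hy⟩ := h φ'
    obtain ⟨y, rfl⟩ := hπs y
    have hφ : ∀ j : J, ∃ s, (φ - y • J.subtype) j = t * s := by
      intro j
      have h1 : π (φ (c ⟨π j, Ideal.mem_map_of_mem π j.2⟩)) = π y * π j := hy ⟨π j, _⟩
      have h2 : π (φ (c ⟨π j, Ideal.mem_map_of_mem π j.2⟩)) = π (φ j) := hwd _ _ (hc _)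
      rw [h2, ← map_mul, hπ, Ideal.Quotient.eq] at h1
      obtain ⟨s, hs⟩ := Ideal.mem_span_singleton'.1 h1
      refine ⟨s, ?_⟩
      rw [mul_comm, hs]
      rfl
    obtain ⟨ψ, hψ⟩ := exists_div ht _ hφ
    have : φ = y • J.subtype + t • ψ := by
      ext j
      have := hψ j
      simp only [LinearMap.sub_apply, LinearMap.smul_apply, Submodule.subtype_apply] at this
      simp only [LinearMap.add_apply, LinearMap.smul_apply, Submodule.subtype_apply, smul_eq_mul]
      rw [← this]
      simp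
    rw [this]
    refine Submodule.add_mem_sup ((hL _).2 ⟨y, fun j => rfl⟩)
      (Submodule.smul_mem_smul (Ideal.mem_span_singleton_self t) trivial)
  have hle : Ideal.span {t} ≤ (⊥ : Ideal S).jacobson := by
    rw [Ideal.span_le, Set.singleton_subset_iff]
    exact IsLocalRing.maximalIdeal_le_jacobson ⊥ htm
  have hfg : (⊤ : Submodule S (J →ₗ[S] S)).FG := IsNoetherian.noetherian _
  have := Submodule.le_of_le_smul_of_le_jacobson_bot hfg hle key
  intro φ
  exact (hL φ).1 (this trivial)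

lemma isSMulRegular_iff {S : Type u} [CommRing S] (t : S) :
    IsSMulRegular S t ↔ ∀ y, t * y = 0 → y = 0 := by
  constructor
  · intro h y hy
    exact h (by simpa using hy)
  · intro h a b hab
    rw [← sub_eq_zero]
    apply h
    rw [mul_sub]
    exact sub_eq_zero.2 hab

lemma isLocalRing_quotient {S : Type u} [CommRing S] [IsLocalRing S] (I : Ideal S)
    (hI : I ≤ maximalIdeal S) : IsLocalRing (S ⧸ I) :=
  have : Nontrivial (S ⧸ I) := Ideal.Quotient.nontrivial_iff.2
    (fun h => (maximalIdeal.isMaximal S).ne_top (top_le_iff.1 (h ▸ hI)))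
  IsLocalRing.of_surjective' (Ideal.Quotient.mk I) Ideal.Quotient.mk_surjective

lemma mk_mem_maximalIdeal {S : Type u} [CommRing S] [IsLocalRing S] (I : Ideal S)
    [IsLocalRing (S ⧸ I)] {x : S} (hx : x ∈ maximalIdeal S) :
    Ideal.Quotient.mk I x ∈ maximalIdeal (S ⧸ I) := by
  have := IsLocalHom.of_surjective (Ideal.Quotient.mk I) Ideal.Quotient.mk_surjective
  exact map_nonunit (Ideal.Quotient.mk I) x hx

lemma exists_of_mem_maximalIdeal {S : Type u} [CommRing S] [IsLocalRing S] (I : Ideal S)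
    [IsLocalRing (S ⧸ I)] {x : S ⧸ I} (hx : x ∈ maximalIdeal (S ⧸ I)) :
    ∃ y ∈ maximalIdeal S, Ideal.Quotient.mk I y = x := by
  obtain ⟨y, rfl⟩ := Ideal.Quotient.mk_surjective x
  refine ⟨y, ?_, rfl⟩
  rw [mem_maximalIdeal, mem_nonunits_iff] at hx ⊢
  exact fun h => hx (h.map _)

/-- A Noetherian local ring of finite injective dimension and dimension at least one has an element
of the maximal ideal regular on it; and simultaneous choice. -/
theorem exists_regular {S : Type u} [CommRing S] [IsLocalRing S] [IsNoetherianRing S]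
    (I : Ideal S) (hI : maximalIdeal S ∉ associatedPrimes S (S ⧸ I)) (J : Ideal S)
    (hJ : maximalIdeal S ∉ associatedPrimes S (S ⧸ J)) :
    ∃ u ∈ maximalIdeal S, (∀ y, u * y ∈ I → y ∈ I) ∧ (∀ y, u * y ∈ J → y ∈ J) := by
  classical
  have h1 := associatedPrimes.finite S (S ⧸ I)
  have h2 := associatedPrimes.finite S (S ⧸ J)
  obtain ⟨u, hu, hu'⟩ := exists_add_notMem (h1.toFinset ∪ h2.toFinset) (by
      intro P hP
      rcases Finset.mem_union.1 hP with hP | hP
      · exact (h1.mem_toFinset.1 hP).isPrime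
      · exact (h2.mem_toFinset.1 hP).isPrime) 0 (maximalIdeal S) (by
      rintro P hP ⟨-, hle⟩
      have hP' : P.IsPrime := by
        rcases Finset.mem_union.1 hP with hP | hP
        · exact (h1.mem_toFinset.1 hP).isPrime
        · exact (h2.mem_toFinset.1 hP).isPrime
      have : P = maximalIdeal S := (IsLocalRing.eq_maximalIdeal
        ((maximalIdeal.isMaximal S).eq_of_le hP'.ne_top hle ▸ maximalIdeal.isMaximal S))
      subst this
      rcases Finset.mem_union.1 hP with hP | hP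
      · exact hI (h1.mem_toFinset.1 hP)
      · exact hJ (h2.mem_toFinset.1 hP))
  refine ⟨u, hu, fun y hy => mem_of_forall_notMem I u (fun P hP => ?_) y hy,
    fun y hy => mem_of_forall_notMem J u (fun P hP => ?_) y hy⟩
  · have := hu' P (Finset.mem_union_left _ (h1.mem_toFinset.2 hP))
    rwa [zero_add] at this
  · have := hu' P (Finset.mem_union_right _ (h2.mem_toFinset.2 hP))
    rwa [zero_add] at this

lemma not_isSMulRegular_of_dim_zero {S : Type u} [CommRing S] [IsLocalRing S] [IsNoetherianRing S]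
    (h : ringKrullDim S = (0 : ℕ)) : ∀ r ∈ maximalIdeal S, ¬ IsSMulRegular S r := by
  intro r hr hreg'
  have h1 := ringKrullDim_quotient_span_singleton_succ_eq_ringKrullDim hreg' hr
  have h2 : IsLocalRing (S ⧸ Ideal.span {r}) :=
    isLocalRing_quotient _ (by rw [Ideal.span_le, Set.singleton_subset_iff]; exact hr)
  have h3 : (0 : WithBot ℕ∞) ≤ ringKrullDim (S ⧸ Ideal.span {r}) :=
    ringKrullDim_nonneg_of_nontrivial
  rw [h] at h1
  have h4 : (0 : WithBot ℕ∞) + 1 ≤ (0 : ℕ) := h1 ▸ add_le_add_left h3 1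
  exact absurd h4 (by norm_num)

/-- **Ext lifting lemma.** `R` Gorenstein local of dimension `n + 2`, `f₁, …, fₙ, t` a regular
sequence, `I ⊇ (f)` with `R/I` of depth at least two with first regular element `t`. -/
theorem exists_lift {R : Type u} [CommRing R] [IsLocalRing R] [IsNoetherianRing R] (hR : FID R)
    (F : List R) (t : R) (hreg : IsWeaklyRegular R (F ++ [t])) (hFm : ∀ r ∈ F, r ∈ maximalIdeal R)
    (htm : t ∈ maximalIdeal R) (hdim : ringKrullDim R = (F.length + 2 : ℕ)) (I : Ideal R)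
    (hFI : Ideal.ofList F ≤ I) (ht : ∀ y, t * y ∈ I → y ∈ I)
    (hu : maximalIdeal R ∉ associatedPrimes R (R ⧸ (I ⊔ Ideal.span {t}))) (x : R)
    (hx : ∀ y ∈ I, x * y ∈ Ideal.ofList F ⊔ Ideal.span {t}) :
    ∃ z, ∀ y ∈ I, (x - t * z) * y ∈ Ideal.ofList F := by
  obtain ⟨hFreg, htF⟩ := (isWeaklyRegular_concat_iff F t).1 hreg
  set K : Ideal R := Ideal.ofList F ⊔ Ideal.span {t} with hK
  have hKl : Ideal.ofList (F ++ [t]) = K := by
    rw [Ideal.ofList_append, Ideal.ofList_singleton]
  have hFm' : Ideal.ofList F ≤ maximalIdeal R := Ideal.span_le.2 hFm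
  have htm' : Ideal.span {t} ≤ maximalIdeal R := by
    rw [Ideal.span_le, Set.singleton_subset_iff]; exact htm
  have hKm : K ≤ maximalIdeal R := sup_le hFm' htm'
  have hFt : ∀ r ∈ F ++ [t], r ∈ maximalIdeal R := by
    intro r hr
    rcases List.mem_append.1 hr with hr | hr
    · exact hFm r hr
    · rw [List.mem_singleton.1 hr]; exact htm
  have hKass : maximalIdeal R ∉ associatedPrimes R (R ⧸ K) := by
    intro hcon
    have := isLocalRing_quotient K hKm
    have h1 : FID (R ⧸ K) := by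
      rw [← hKl]
      exact hR.quotient_ofList _ hreg
    obtain ⟨n, hn⟩ := h1
    have h2 := Groth.Agent.Localalg.GorDepth.hasInjectiveDimensionLT_one
      (ModuleCat.of (R ⧸ K) (R ⧸ K)) n hn (by
        intro y hy hreg'
        obtain ⟨r, hr, rfl⟩ := exists_of_mem_maximalIdeal K hy
        obtain ⟨z, hz, hz'⟩ := exists_of_mem_associatedPrimes K _ hcon r hr
        rw [isSMulRegular_iff] at hreg'
        refine hz (Ideal.Quotient.eq_zero_iff_mem.1 (hreg' _ ?_))
        rw [← map_mul]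
        exact Ideal.Quotient.eq_zero_iff_mem.2 hz')
    have h3 := Groth.Agent.Localalg.GorDepth.krullDimLE_zero h2
    have h4 := ringKrullDim_add_length_eq_ringKrullDim_of_isRegular (R := R) (F ++ [t])
      (IsRegular.of_isWeaklyRegular_of_mem_maximalIdeal R hFt hreg)
    rw [hKl, hdim] at h4
    have h5 : ringKrullDim (R ⧸ K) ≤ (0 : ℕ) := Ring.krullDimLE_iff.1 h3
    have h6 : ringKrullDim (R ⧸ K) = (1 : ℕ) := by
      have h7 : ((F.length + 2 : ℕ) : WithBot ℕ∞) = (1 : ℕ) + ((F ++ [t]).length : ℕ) := by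
        rw [List.length_append, List.length_singleton, ← Nat.cast_add]
        congr 1
        omega
      rw [h7] at h4
      exact ENat.WithBot.add_natCast_cancel.1 h4
    rw [h6] at h5
    exact absurd h5 (by norm_num)
  obtain ⟨u, hum, huK, huI⟩ := exists_regular K hKass _ hu
  -- the rings
  let π := Ideal.Quotient.mk (Ideal.ofList F)
  have hSloc : IsLocalRing (R ⧸ Ideal.ofList F) := isLocalRing_quotient _ hFm'
  have hS : FID (R ⧸ Ideal.ofList F) := hR.quotient_ofList _ hFreg
  have htS : π t ∈ maximalIdeal (R ⧸ Ideal.ofList F) := mk_mem_maximalIdeal _ htm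
  have hspt : Ideal.span {π t} = (Ideal.span {t}).map π := by
    rw [Ideal.map_span, Set.image_singleton]
  let π₁ := Ideal.Quotient.mk (Ideal.span {π t})
  have hS1loc : IsLocalRing ((R ⧸ Ideal.ofList F) ⧸ Ideal.span {π t}) :=
    isLocalRing_quotient _ (by rw [Ideal.span_le, Set.singleton_subset_iff]; exact htS)
  have htreg : ∀ y : R ⧸ Ideal.ofList F, π t * y = 0 → y = 0 := by
    intro y hy
    obtain ⟨y, rfl⟩ := Ideal.Quotient.mk_surjective y
    rw [← map_mul] at hy
    exact Ideal.Quotient.eq_zero_iff_mem.2 (htF y (Ideal.Quotient.eq_zero_iff_mem.1 hy))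
  have huS : π₁ (π u) ∈ maximalIdeal ((R ⧸ Ideal.ofList F) ⧸ Ideal.span {π t}) :=
    mk_mem_maximalIdeal _ (mk_mem_maximalIdeal _ hum)
  have hureg : ∀ y : (R ⧸ Ideal.ofList F) ⧸ Ideal.span {π t}, π₁ (π u) * y = 0 → y = 0 := by
    intro y hy
    obtain ⟨y, rfl⟩ := Ideal.Quotient.mk_surjective y
    obtain ⟨y, rfl⟩ := Ideal.Quotient.mk_surjective y
    rw [← map_mul, ← map_mul] at hy
    have h1 := Ideal.Quotient.eq_zero_iff_mem.1 hy
    rw [hspt, Ideal.mem_quotient_iff_mem_sup, sup_comm] at h1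
    refine Ideal.Quotient.eq_zero_iff_mem.2 ?_
    rw [hspt, Ideal.mem_quotient_iff_mem_sup, sup_comm]
    exact huK y h1
  have hS2loc : IsLocalRing (((R ⧸ Ideal.ofList F) ⧸ Ideal.span {π t}) ⧸
      Ideal.span {π₁ (π u)}) :=
    isLocalRing_quotient _ (by rw [Ideal.span_le, Set.singleton_subset_iff]; exact huS)
  have hS1 : FID ((R ⧸ Ideal.ofList F) ⧸ Ideal.span {π t}) :=
    hS.quotient _ ((isSMulRegular_iff _).2 htreg)
  have hS2 : FID (((R ⧸ Ideal.ofList F) ⧸ Ideal.span {π t}) ⧸ Ideal.span {π₁ (π u)}) :=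
    hS1.quotient _ ((isSMulRegular_iff _).2 hureg)
  have hd0 : ringKrullDim (R ⧸ Ideal.ofList F) = (2 : ℕ) := by
    have h4 := ringKrullDim_add_length_eq_ringKrullDim_of_isRegular (R := R) F
      (IsRegular.of_isWeaklyRegular_of_mem_maximalIdeal R hFm hFreg)
    rw [hdim] at h4
    have h7 : ((F.length + 2 : ℕ) : WithBot ℕ∞) = (2 : ℕ) + (F.length : ℕ) := by
      rw [← Nat.cast_add, add_comm]
    rw [h7] at h4
    exact ENat.WithBot.add_natCast_cancel.1 h4
  have hd1 := ringKrullDim_quotient_span_singleton_succ_eq_ringKrullDim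
    ((isSMulRegular_iff _).2 htreg) htS
  have hd2 := ringKrullDim_quotient_span_singleton_succ_eq_ringKrullDim
    ((isSMulRegular_iff _).2 hureg) huS
  have hd3 : ringKrullDim (((R ⧸ Ideal.ofList F) ⧸ Ideal.span {π t}) ⧸
      Ideal.span {π₁ (π u)}) = (0 : ℕ) := by
    rw [hd0, ← hd2] at hd1
    have : ringKrullDim (((R ⧸ Ideal.ofList F) ⧸ Ideal.span {π t}) ⧸
      Ideal.span {π₁ (π u)}) + (2 : ℕ) = (0 : ℕ) + (2 : ℕ) := by
      refine Eq.trans ?_ (hd1.trans (by rw [Nat.cast_zero, zero_add]))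
      rw [add_assoc]
      norm_num
    exact ENat.WithBot.add_natCast_cancel.1 this
  have hE : Ext1 (R ⧸ Ideal.ofList F) (I.map π) := by
    refine ext1_of_quotient (π t) htS htreg _ ?_ ?_
    · intro y hy
      obtain ⟨y, rfl⟩ := Ideal.Quotient.mk_surjective y
      rw [← map_mul, Ideal.mem_quotient_iff_mem hFI] at hy
      rw [Ideal.mem_quotient_iff_mem hFI]
      exact ht y hy
    · refine ext1_of_quotient (π₁ (π u)) huS hureg _ ?_ ?_
      · intro y hy
        obtain ⟨y, rfl⟩ := Ideal.Quotient.mk_surjective y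
        obtain ⟨y, rfl⟩ := Ideal.Quotient.mk_surjective y
        rw [← map_mul, ← map_mul, Ideal.mem_quotient_iff_mem_sup, hspt, ← Ideal.map_sup,
          Ideal.mem_quotient_iff_mem (hFI.trans le_sup_left)] at hy
        rw [Ideal.mem_quotient_iff_mem_sup, hspt, ← Ideal.map_sup,
          Ideal.mem_quotient_iff_mem (hFI.trans le_sup_left)]
        exact huI y hy
      · exact ext1_of_depth_zero hS2 (not_isSMulRegular_of_dim_zero hd3) _
  -- conclusion
  have hφ : ∀ j : I.map π, ∃ s, ((π x) • (I.map π).subtype) j = π t * s := by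
    rintro ⟨j, hj⟩
    obtain ⟨j, hj', rfl⟩ := (Ideal.mem_map_iff_of_surjective π Ideal.Quotient.mk_surjective).1 hj
    have h1 := hx j hj'
    obtain ⟨v, hv, w, hw, hvw⟩ := Submodule.mem_sup.1 h1
    obtain ⟨s, rfl⟩ := Ideal.mem_span_singleton'.1 hw
    refine ⟨π s, ?_⟩
    change π x * π j = _
    rw [← map_mul, ← hvw, map_add, Ideal.Quotient.eq_zero_iff_mem.2 hv, zero_add, map_mul,
      mul_comm]
  obtain ⟨ψ, hψ⟩ := exists_div htreg _ hφ
  obtain ⟨z, hz⟩ := hE ψ
  obtain ⟨z, rfl⟩ := Ideal.Quotient.mk_surjective z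
  refine ⟨z, fun y hy => ?_⟩
  have h1 := hψ ⟨π y, Ideal.mem_map_of_mem π hy⟩
  rw [hz] at h1
  change π x * π y = π t * (π z * π y) at h1
  refine Ideal.Quotient.eq_zero_iff_mem.1 ?_
  change π _ = 0
  rw [sub_mul, map_sub, map_mul, h1, map_mul, map_mul, mul_assoc, sub_self]

theorem FID_of_isRegularLocalRing (R : Type u) [CommRing R] [IsRegularLocalRing R] : FID R :=
  (Groth.Agent.S0342.result R).exists_hasInjectiveDimensionLT

/-- The Ext lifting lemma over a regular local ring. -/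
theorem exists_lift_regular {R : Type u} [CommRing R] [IsRegularLocalRing R] {n : ℕ}
    (f : Fin n → R) (t : R) (hreg : IsWeaklyRegular R (List.ofFn f ++ [t]))
    (hfm : ∀ i, f i ∈ maximalIdeal R) (htm : t ∈ maximalIdeal R)
    (hdim : ringKrullDim R = (n + 2 : ℕ)) (I : Ideal R) (hfI : ∀ i, f i ∈ I)
    (ht : ∀ y, t * y ∈ I → y ∈ I) (u : R) (hum : u ∈ maximalIdeal R)
    (hu : ∀ y, u * y ∈ I ⊔ Ideal.span {t} → y ∈ I ⊔ Ideal.span {t}) (x : R)
    (hx : ∀ y ∈ I, x * y ∈ Ideal.span (Set.range f) ⊔ Ideal.span {t}) :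
    ∃ z, ∀ y ∈ I, (x - t * z) * y ∈ Ideal.span (Set.range f) := by
  rw [← ofList_ofFn] at hx ⊢
  refine exists_lift (FID_of_isRegularLocalRing R) (List.ofFn f) t hreg ?_ htm
    (by rw [List.length_ofFn]; exact hdim) I ?_ ht ?_ x hx
  · intro r hr
    obtain ⟨i, rfl⟩ := (List.mem_ofFn' _ _).1 hr
    exact hfm i
  · rw [ofList_ofFn, Ideal.span_le]
    rintro _ ⟨i, rfl⟩
    exact hfI i
  · intro hcon
    obtain ⟨z, hz, hz'⟩ := exists_of_mem_associatedPrimes _ _ hcon u hum
    exact hz (hu z hz')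

end Groth.Agent.Ega4dB.GorLift
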