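import Groth.Agent.Ega4dB.RegIdeal3
import Mathlib.LinearAlgebra.Matrix.Adjugate
import Mathlib.RingTheory.Ideal.AssociatedPrime.Finiteness
import Mathlib.LinearAlgebra.Matrix.NonsingularInverse

/-!
# Linkage: `(f) : (h) = (f) + (det M)` for regular sequences `f = M h` in a Noetherian local ring

`Link I J d`: multiplication by `d` induces an injection `R/J → R/I` with image `(I : J)/I`.
* `link_det`: `Link (f) (h) (det M)`.
-/

set_option autoImplicit false

universe u

open RingTheory.Sequence IsLocalRing Matrix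

namespace Groth.Agent.Ega4dB.Linkage

variable {R : Type u} [CommRing R]

/-- Multiplication by `d` induces an injection `R/J → R/I` with image `(I : J)/I`. -/
structure Link (I J : Ideal R) (d : R) : Prop where
  mul_mem : ∀ z ∈ J, d * z ∈ I
  inj : ∀ z, d * z ∈ I → z ∈ J
  colon : ∀ x, (∀ y ∈ J, x * y ∈ I) → x ∈ I ⊔ Ideal.span {d}

theorem Link.comp {I J K : Ideal R} {d d' : R} (hJK : J ≤ K) (h : Link I J d)
    (h' : Link J K d') : Link I K (d * d') where
  mul_mem z hz := by
    rw [mul_assoc]; exact h.mul_mem _ (h'.mul_mem z hz)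
  inj z hz := by
    rw [mul_assoc] at hz; exact h'.inj z (h.inj _ hz)
  colon x hx := by
    have h1 := h.colon x (fun y hy => hx y (hJK hy))
    obtain ⟨a, ha, b, hb, rfl⟩ := Submodule.mem_sup.mp h1
    obtain ⟨y, rfl⟩ := Ideal.mem_span_singleton'.mp hb
    have h2 : y ∈ J ⊔ Ideal.span {d'} := by
      apply h'.colon
      intro z hz
      apply h.inj
      have := hx z hz
      have h3 : a * z ∈ I := I.mul_mem_right _ ha
      have h4 : d * (y * z) = (a + y * d) * z - a * z := by ring
      rw [h4]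
      exact I.sub_mem this h3
    obtain ⟨c, hc, e, he, rfl⟩ := Submodule.mem_sup.mp h2
    obtain ⟨w, rfl⟩ := Ideal.mem_span_singleton'.mp he
    have h5 : a + (c + w * d') * d = (a + d * c) + w * (d * d') := by ring
    rw [h5]
    exact Submodule.add_mem_sup (I.add_mem ha (h.mul_mem c hc))
      (Ideal.mem_span_singleton'.mpr ⟨w, rfl⟩)

theorem Link.cancel {I J K : Ideal R} {d d' : R} (h : Link I J d)
    (h' : Link I K (d * d')) : Link J K d' where
  mul_mem z hz := by
    apply h.inj
    rw [← mul_assoc]; exact h'.mul_mem z hz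
  inj z hz := by
    apply h'.inj
    rw [mul_assoc]; exact h.mul_mem _ hz
  colon x hx := by
    have h1 : d * x ∈ I ⊔ Ideal.span {d * d'} := by
      apply h'.colon
      intro y hy
      rw [mul_assoc]
      exact h.mul_mem _ (hx y hy)
    obtain ⟨a, ha, b, hb, hab⟩ := Submodule.mem_sup.mp h1
    obtain ⟨y, rfl⟩ := Ideal.mem_span_singleton'.mp hb
    have h2 : x - y * d' ∈ J := by
      apply h.inj
      have : d * (x - y * d') = a := by rw [mul_sub, ← hab]; ring
      rw [this]; exact ha
    rw [show x = (x - y * d') + y * d' by ring]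
    exact Submodule.add_mem_sup h2 (Ideal.mem_span_singleton'.mpr ⟨y, rfl⟩)

theorem Link.congr {I J : Ideal R} {d d' : R} (h : Link I J d) (hd : d' - d ∈ I) : Link I J d' where
  mul_mem z hz := by
    rw [show d' * z = (d' - d) * z + d * z by ring]
    exact I.add_mem (I.mul_mem_right _ hd) (h.mul_mem z hz)
  inj z hz := by
    apply h.inj
    rw [show d * z = d' * z - (d' - d) * z by ring]
    exact I.sub_mem hz (I.mul_mem_right _ hd)
  colon x hx := by
    have h1 := h.colon x hx
    have h2 : I ⊔ Ideal.span {d} ≤ I ⊔ Ideal.span {d'} := by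
      refine sup_le le_sup_left ?_
      rw [Ideal.span_singleton_le_iff_mem, show d = -(d' - d) + d' by ring]
      exact Submodule.add_mem_sup (I.neg_mem hd) (Ideal.mem_span_singleton_self d')
    exact h2 h1

theorem Link.mul_unit {I J : Ideal R} {d u : R} (h : Link I J d) (hu : IsUnit u) : Link I J (d * u) where
  mul_mem z hz := by
    rw [mul_right_comm]; exact I.mul_mem_right _ (h.mul_mem z hz)
  inj z hz := by
    rw [mul_right_comm] at hz
    exact h.inj z ((Ideal.mul_unit_mem_iff_mem I hu).mp hz)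
  colon x hx := by
    have h1 := h.colon x hx
    rwa [Ideal.span_singleton_mul_right_unit hu]

/-- The case of one element, modulo `𝔞`. -/
theorem link_single {𝔞 : Ideal R} {a b : R} (ha : ∀ x, a * x ∈ 𝔞 → x ∈ 𝔞) (hb : ∀ x, b * x ∈ 𝔞 → x ∈ 𝔞) :
    Link (Ideal.span {a * b} ⊔ 𝔞) (Ideal.span {b} ⊔ 𝔞) a where
  mul_mem z hz := by
    obtain ⟨c, hc, e, he, rfl⟩ := Submodule.mem_sup.mp hz
    obtain ⟨y, rfl⟩ := Ideal.mem_span_singleton'.mp hc
    rw [show a * (y * b + e) = y * (a * b) + a * e by ring]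
    exact Submodule.add_mem_sup (Ideal.mem_span_singleton'.mpr ⟨y, rfl⟩) (𝔞.mul_mem_left _ he)
  inj z hz := by
    obtain ⟨c, hc, e, he, hce⟩ := Submodule.mem_sup.mp hz
    obtain ⟨y, rfl⟩ := Ideal.mem_span_singleton'.mp hc
    have h1 : z - y * b ∈ 𝔞 := by
      apply ha
      have : a * (z - y * b) = e := by rw [mul_sub, ← hce]; ring
      rw [this]; exact he
    rw [show z = y * b + (z - y * b) by ring]
    exact Submodule.add_mem_sup (Ideal.mem_span_singleton'.mpr ⟨y, rfl⟩) h1
  colon x hx := by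
    have h1 := hx b (Submodule.mem_sup_left (Ideal.mem_span_singleton_self b))
    obtain ⟨c, hc, e, he, hce⟩ := Submodule.mem_sup.mp h1
    obtain ⟨y, rfl⟩ := Ideal.mem_span_singleton'.mp hc
    have h2 : x - y * a ∈ 𝔞 := by
      apply hb
      have : b * (x - y * a) = e := by
        have : b * (x - y * a) = x * b - y * (a * b) := by ring
        rw [this, ← hce]; ring
      rw [this]; exact he
    rw [show x = (x - y * a) + y * a by ring]
    exact Submodule.add_mem_sup (Submodule.mem_sup_right h2) (Ideal.mem_span_singleton'.mpr ⟨y, rfl⟩)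

theorem Link.comap {S : Type u} [CommRing S] (π : R →+* S) (hπ : Function.Surjective π) {I J : Ideal S}
    {d : R} (h : Link I J (π d)) : Link (I.comap π) (J.comap π) d where
  mul_mem z hz := by
    rw [Ideal.mem_comap, map_mul]; exact h.mul_mem _ hz
  inj z hz := by
    rw [Ideal.mem_comap, map_mul] at hz; exact h.inj _ hz
  colon x hx := by
    have h1 : π x ∈ I ⊔ Ideal.span {π d} := by
      apply h.colon
      intro y hy
      obtain ⟨y, rfl⟩ := hπ y
      have := hx y hy
      rwa [Ideal.mem_comap, map_mul] at this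
    obtain ⟨a, ha, b, hb, hab⟩ := Submodule.mem_sup.mp h1
    obtain ⟨y, rfl⟩ := Ideal.mem_span_singleton'.mp hb
    obtain ⟨y, rfl⟩ := hπ y
    rw [show x = (x - y * d) + y * d by ring]
    refine Submodule.add_mem_sup ?_ (Ideal.mem_span_singleton'.mpr ⟨y, rfl⟩)
    rw [Ideal.mem_comap, map_sub, map_mul, ← hab, add_sub_cancel_right]
    exact ha

/-- The Cramer rule modulo the ideal of the `f i.succ`. -/
theorem det_mul_sub_mem {n : ℕ} (f h : Fin (n + 1) → R) (M : Matrix (Fin (n + 1)) (Fin (n + 1)) R)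
    (hf : f = M *ᵥ h) :
    M.det * h 0 - f 0 * (M.submatrix Fin.succ Fin.succ).det ∈
      Ideal.span (Set.range fun i : Fin n => f i.succ) := by
  have h1 : M.det * h 0 = ∑ i, M.adjugate 0 i * f i := by
    have h2 : M.adjugate *ᵥ f = M.det • h := by
      rw [hf, Matrix.mulVec_mulVec, Matrix.adjugate_mul, Matrix.smul_mulVec, Matrix.one_mulVec]
    have h3 := congrFun h2 0
    rw [Pi.smul_apply, smul_eq_mul] at h3
    rw [← h3]
    rfl
  rw [h1, Fin.sum_univ_succ]
  have h4 : M.adjugate 0 0 = (M.submatrix Fin.succ Fin.succ).det := by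
    rw [Matrix.adjugate_fin_succ_eq_det_submatrix]
    simp
  rw [h4, mul_comm (f 0), add_sub_cancel_left]
  exact Ideal.sum_mem _ fun i _ => Ideal.mul_mem_left _ _ (Ideal.subset_span ⟨i, rfl⟩)

theorem span_mulVec_le {n : ℕ} (A : Matrix (Fin n) (Fin n) R) (h : Fin n → R) :
    Ideal.span (Set.range (A *ᵥ h)) ≤ Ideal.span (Set.range h) := by
  rw [Ideal.span_le]
  rintro _ ⟨i, rfl⟩
  have h1 : (A *ᵥ h) i = ∑ j, A i j * h j := rfl
  rw [h1]
  exact Ideal.sum_mem (Ideal.span (Set.range h)) fun j _ =>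
    Ideal.mul_mem_left _ _ (Ideal.subset_span (Set.mem_range_self j))

theorem span_mulVec_eq {n : ℕ} (A : Matrix (Fin n) (Fin n) R) (hA : IsUnit A.det) (h : Fin n → R) :
    Ideal.span (Set.range (A *ᵥ h)) = Ideal.span (Set.range h) := by
  refine le_antisymm (span_mulVec_le A h) ?_
  have h1 := span_mulVec_le A⁻¹ (A *ᵥ h)
  rwa [Matrix.mulVec_mulVec, Matrix.nonsing_inv_mul _ hA, Matrix.one_mulVec] at h1

theorem det_one_updateRow {n : ℕ} (j : Fin n) (c : Fin n → R) :
    ((1 : Matrix (Fin n) (Fin n) R).updateRow j c).det = c j := by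
  have h1 := Matrix.cramer_apply (1 : Matrix (Fin n) (Fin n) R) c j
  rw [Matrix.cramer_one] at h1
  rw [← Matrix.det_transpose, ← Matrix.updateCol_transpose, Matrix.transpose_one]
  exact h1.symm

/-- General position: a change of generators after which the first one avoids the given primes. -/
theorem exists_matrix [IsLocalRing R] {n : ℕ} (h : Fin (n + 1) → R) (s : Finset (Ideal R))
    (hs : ∀ p ∈ s, p.IsPrime) (hle : ∀ p ∈ s, ¬ Ideal.span (Set.range h) ≤ p) (hne : s.Nonempty) :
    ∃ P : Matrix (Fin (n + 1)) (Fin (n + 1)) R, IsUnit P.det ∧ ∀ p ∈ s, (P *ᵥ h) 0 ∉ p := by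
  classical
  set J := Ideal.span (Set.range h) with hJ
  have hJfg : J.FG := ⟨Finset.univ.image h, by rw [Finset.coe_image, Finset.coe_univ, Set.image_univ]⟩
  let F : Ideal R → Ideal R := fun i => i
  have h1 : ¬ ((J : Set R) ⊆ ⋃ i ∈ (↑(insert (maximalIdeal R * J) s : Finset (Ideal R)) : Set (Ideal R)),
      (F i : Set R)) := by
    rw [Ideal.subset_union_prime (maximalIdeal R * J) (maximalIdeal R * J)]
    · rintro ⟨i, hi, hJi⟩
      rw [Finset.mem_insert] at hi
      rcases hi with rfl | hi
      · have h2 : J = ⊥ := Submodule.eq_bot_of_le_smul_of_le_jacobson_bot (maximalIdeal R) J hJfg hJi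
          (IsLocalRing.jacobson_eq_maximalIdeal ⊥ bot_ne_top).ge
        obtain ⟨p, hp⟩ := hne
        exact hle p hp (by rw [h2]; exact bot_le)
      · exact hle i hi hJi
    · intro i hi h1 _
      rw [Finset.mem_insert] at hi
      exact hs i (hi.resolve_left h1)
  rw [Set.not_subset] at h1
  obtain ⟨w, hwJ, hw⟩ := h1
  simp only [Set.mem_iUnion, not_exists, Finset.coe_insert, Set.mem_insert_iff, F, SetLike.mem_coe] at hw
  obtain ⟨c, hc⟩ := (Ideal.mem_span_range_iff_exists_fun).mp hwJ
  have h2 : ∃ j, IsUnit (c j) := by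
    by_contra hcon
    push Not at hcon
    apply hw (maximalIdeal R * J) (Or.inl rfl)
    rw [← hc]
    exact Ideal.sum_mem _ fun i _ => Ideal.mul_mem_mul ((mem_maximalIdeal _).mpr (hcon i))
      (Ideal.subset_span ⟨i, rfl⟩)
  obtain ⟨j, hj⟩ := h2
  refine ⟨((1 : Matrix (Fin (n + 1)) (Fin (n + 1)) R).updateRow j c).submatrix (Equiv.swap 0 j) id, ?_, ?_⟩
  · rw [Matrix.det_permute, det_one_updateRow]
    refine IsUnit.mul ?_ hj
    rcases Int.units_eq_one_or (Equiv.Perm.sign (Equiv.swap 0 j)) with h | h <;> rw [h] <;> simp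
  · intro p hp
    have h3 : ((((1 : Matrix (Fin (n + 1)) (Fin (n + 1)) R).updateRow j c).submatrix
        (Equiv.swap 0 j) id) *ᵥ h) 0 = w := by
      rw [← hc]
      simp [Matrix.mulVec, dotProduct]
    rw [h3]
    exact fun hwp => hw p (Or.inr hp) hwp

theorem ofList_ofFn {n : ℕ} (f : Fin n → R) : Ideal.ofList (List.ofFn f) = Ideal.span (Set.range f) := by
  unfold Ideal.ofList
  congr 1
  ext x
  simp [List.mem_ofFn]

theorem span_range_succ {n : ℕ} (f : Fin (n + 1) → R) :
    Ideal.span (Set.range f) = Ideal.span {f 0} ⊔ Ideal.span (Set.range fun i : Fin n => f i.succ) := by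
  rw [← ofList_ofFn, ← ofList_ofFn, List.ofFn_succ, Ideal.ofList_cons]

theorem isSMulRegular_quotient_iff (I : Ideal R) (a : R) :
    IsSMulRegular (R ⧸ I) a ↔ ∀ x, a * x ∈ I → x ∈ I := by
  constructor
  · intro h x hx
    have h1 : a • (Ideal.Quotient.mk I x) = a • (0 : R ⧸ I) := by
      rw [smul_zero]
      exact Ideal.Quotient.eq_zero_iff_mem.mpr hx
    exact Ideal.Quotient.eq_zero_iff_mem.mp (h h1)
  · intro h x y hxy
    obtain ⟨x, rfl⟩ := Ideal.Quotient.mk_surjective x
    obtain ⟨y, rfl⟩ := Ideal.Quotient.mk_surjective y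
    rw [Ideal.Quotient.eq]
    apply h
    rw [mul_sub, ← Ideal.Quotient.eq]
    exact hxy

/-- Linkage for regular sequences in a Noetherian local ring. -/
theorem link_det : ∀ (n : ℕ) (R : Type u) [CommRing R] [IsLocalRing R] [IsNoetherianRing R]
    (f h : Fin n → R) (M : Matrix (Fin n) (Fin n) R), f = M *ᵥ h →
    (∀ i, f i ∈ maximalIdeal R) → (∀ i, h i ∈ maximalIdeal R) →
    IsWeaklyRegular R (List.ofFn f) → IsWeaklyRegular R (List.ofFn h) →
    Link (Ideal.span (Set.range f)) (Ideal.span (Set.range h)) M.det := by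
  intro n
  induction n with
  | zero =>
    intro R _ _ _ f h M hf hfm hhm hfr hhr
    have h1 : Ideal.span (Set.range f) = ⊥ := by simp [Set.range_eq_empty]
    have h2 : Ideal.span (Set.range h) = ⊥ := by simp [Set.range_eq_empty]
    rw [h1, h2, Matrix.det_isEmpty]
    exact ⟨fun z hz => by rwa [one_mul], fun z hz => by rwa [one_mul] at hz, fun x _ => by simp⟩
  | succ n ih =>
    intro R _ _ _ f h M hf hfm hhm hfr hhr
    set 𝔣 := Ideal.span (Set.range fun i : Fin n => f i.succ) with h𝔣
    have h𝔣' : Ideal.ofList (List.ofFn fun i : Fin n => f i.succ) = 𝔣 := ofList_ofFn _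
    have h𝔣m : 𝔣 ≤ maximalIdeal R := by
      rw [h𝔣, Ideal.span_le]; rintro _ ⟨i, rfl⟩; exact hfm _
    have hfr' : IsWeaklyRegular R ((List.ofFn fun i : Fin n => f i.succ) ++ [f 0]) := by
      refine isWeaklyRegular_of_perm_of_subset_maximalIdeal hfr ?_ ?_
      · rw [List.ofFn_succ]
        exact (List.perm_append_singleton _ _).symm
      · intro r hr
        rw [List.mem_ofFn] at hr
        obtain ⟨i, rfl⟩ := hr
        exact hfm i
    rw [RegIdeal3.isWeaklyRegular_append_iff_quotient, h𝔣', isWeaklyRegular_singleton_iff] at hfr'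
    have hf0 : ∀ x, f 0 * x ∈ 𝔣 → x ∈ 𝔣 := (isSMulRegular_quotient_iff 𝔣 (f 0)).mp hfr'.2
    have hfh : Ideal.span (Set.range f) ≤ Ideal.span (Set.range h) := by
      rw [hf]; exact span_mulVec_le M h
    -- general position
    obtain ⟨P, hP, hPw⟩ : ∃ P : Matrix (Fin (n + 1)) (Fin (n + 1)) R, IsUnit P.det ∧
        ∀ x, (P *ᵥ h) 0 * x ∈ 𝔣 → x ∈ 𝔣 := by
      have : Nontrivial (R ⧸ 𝔣) := Ideal.Quotient.nontrivial_iff.2
        (fun h => (maximalIdeal.isMaximal R).ne_top (top_le_iff.1 (h ▸ h𝔣m)))
      obtain ⟨P, hP, hPw⟩ := exists_matrix h (associatedPrimes.finite R (R ⧸ 𝔣)).toFinset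
        (fun p hp => by
          rw [Set.Finite.mem_toFinset] at hp
          exact hp.isPrime)
        (fun p hp hle => by
          rw [Set.Finite.mem_toFinset] at hp
          have h1 : f 0 ∈ p := hle (hfh (Ideal.subset_span ⟨0, rfl⟩))
          have h2 : f 0 ∈ ⋃ p ∈ associatedPrimes R (R ⧸ 𝔣), (p : Set R) :=
            Set.mem_biUnion hp h1
          rw [biUnion_associatedPrimes_eq_compl_regular] at h2
          exact h2 hfr'.2)
        (by
          obtain ⟨p, hp⟩ := associatedPrimes.nonempty R (R ⧸ 𝔣)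
          exact ⟨p, by rwa [Set.Finite.mem_toFinset]⟩)
      refine ⟨P, hP, (isSMulRegular_quotient_iff 𝔣 _).mp ?_⟩
      by_contra hcon
      have h2 : (P *ᵥ h) 0 ∈ {r : R | IsSMulRegular (R ⧸ 𝔣) r}ᶜ := hcon
      rw [← biUnion_associatedPrimes_eq_compl_regular, Set.mem_iUnion₂] at h2
      obtain ⟨p, hp, hpw⟩ := h2
      exact hPw p (by rwa [Set.Finite.mem_toFinset]) hpw
    set h' := P *ᵥ h with hh'
    have hspan : Ideal.span (Set.range h') = Ideal.span (Set.range h) := span_mulVec_eq P hP h
    let M' := M * P⁻¹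
    have hM : M = M' * P := by
      rw [Matrix.mul_assoc, Matrix.nonsing_inv_mul _ hP, Matrix.mul_one]
    have hf' : f = M' *ᵥ h' := by
      rw [hh', Matrix.mulVec_mulVec, ← hM, hf]
    have hhm' : ∀ i, h' i ∈ maximalIdeal R := by
      intro i
      have : h' i ∈ Ideal.span (Set.range h) := hspan ▸ Ideal.subset_span ⟨i, rfl⟩
      have hle : Ideal.span (Set.range h) ≤ maximalIdeal R := by
        rw [Ideal.span_le]; rintro _ ⟨i, rfl⟩; exact hhm _
      exact hle this
    have hhr' : IsWeaklyRegular R (List.ofFn h') := by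
      have h1 := RegIdeal3.isRegular_of_mem_maximalIdeal (rs := List.ofFn h) (by
        intro r hr
        rw [List.mem_ofFn] at hr
        obtain ⟨i, rfl⟩ := hr
        exact hhm i) hhr
      exact (RegIdeal3.isRegular_of_ofList_eq h1 (ys := List.ofFn h')
        (by rw [ofList_ofFn, ofList_ofFn, hspan]) (by simp)).toIsWeaklyRegular
    rw [hM, Matrix.det_mul, ← hspan]
    apply Link.mul_unit _ hP
    -- the two intermediate ideals
    have ha : Link (Ideal.span {h' 0 * f 0} ⊔ 𝔣) (Ideal.span {f 0} ⊔ 𝔣) (h' 0) := link_single hPw hf0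
    have hb : Link (Ideal.span {f 0 * h' 0} ⊔ 𝔣) (Ideal.span {h' 0} ⊔ 𝔣) (f 0) := link_single hf0 hPw
    have hc : Link (Ideal.span {h' 0} ⊔ 𝔣) (Ideal.span (Set.range h'))
        (M'.submatrix Fin.succ Fin.succ).det := by
      let π := Ideal.Quotient.mk (Ideal.span {h' 0})
      have hπ : Function.Surjective π := Ideal.Quotient.mk_surjective
      have hwm : Ideal.span {h' 0} ≤ maximalIdeal R := by
        rw [Ideal.span_singleton_le_iff_mem]; exact hhm' 0
      have : Nontrivial (R ⧸ Ideal.span {h' 0}) := Ideal.Quotient.nontrivial_iff.2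
        (fun h => (maximalIdeal.isMaximal R).ne_top (top_le_iff.1 (h ▸ hwm)))
      have : IsLocalRing (R ⧸ Ideal.span {h' 0}) := IsLocalRing.of_surjective' π hπ
      have hπm : ∀ r ∈ maximalIdeal R, π r ∈ maximalIdeal (R ⧸ Ideal.span {h' 0}) := by
        intro r hr
        rw [mem_maximalIdeal, mem_nonunits_iff]
        intro hu
        obtain ⟨s, hs⟩ := hu.exists_right_inv
        obtain ⟨s, rfl⟩ := hπ s
        rw [← map_mul, ← map_one π, Ideal.Quotient.eq] at hs
        have h1 : (1 : R) ∈ maximalIdeal R := by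
          rw [show (1 : R) = r * s - (r * s - 1) by ring]
          exact Ideal.sub_mem _ (Ideal.mul_mem_right _ _ hr) (hwm hs)
        exact (maximalIdeal.isMaximal R).ne_top ((Ideal.eq_top_iff_one _).mpr h1)
      have hreg : ∀ g : Fin n → R, IsWeaklyRegular R (h' 0 :: List.ofFn g) →
          IsWeaklyRegular (R ⧸ Ideal.span {h' 0}) (List.ofFn fun i => π (g i)) := by
        intro g hg
        have h1 : (List.ofFn fun i => π (g i)) = (List.ofFn g).map π := by
          rw [List.map_ofFn]; rfl
        rw [h1, RegIdeal3.isWeaklyRegular_quotient_map_iff, ← Ideal.ofList_singleton]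
        exact ((RegIdeal3.isWeaklyRegular_append_iff_quotient [h' 0] _).mp hg).2
      have key := ih (R ⧸ Ideal.span {h' 0}) (fun i => π (f i.succ)) (fun i => π (h' i.succ))
        (π.mapMatrix (M'.submatrix Fin.succ Fin.succ)) (by
          funext i
          have h1 : f i.succ = ∑ j, M' i.succ j * h' j := congrFun hf' i.succ
          rw [h1, Fin.sum_univ_succ, map_add, map_mul, map_sum]
          have h2 : π (h' 0) = 0 := Ideal.Quotient.eq_zero_iff_mem.mpr (Ideal.mem_span_singleton_self _)
          rw [h2, mul_zero, zero_add]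
          refine Finset.sum_congr rfl fun j _ => ?_
          rw [map_mul]; rfl) (fun i => hπm _ (hfm _)) (fun i => hπm _ (hhm' _))
        (hreg _ (by
          have h1 : IsWeaklyRegular R ((List.ofFn fun i : Fin n => f i.succ) ++ [h' 0]) := by
            rw [RegIdeal3.isWeaklyRegular_append_iff_quotient, h𝔣', isWeaklyRegular_singleton_iff]
            exact ⟨hfr'.1, (isSMulRegular_quotient_iff 𝔣 _).mpr hPw⟩
          refine isWeaklyRegular_of_perm_of_subset_maximalIdeal h1 (List.perm_append_singleton _ _) ?_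
          intro r hr
          rw [List.mem_append, List.mem_singleton, List.mem_ofFn] at hr
          rcases hr with ⟨i, rfl⟩ | rfl
          · exact hfm _
          · exact hhm' 0))
        (hreg _ (by rw [List.ofFn_succ] at hhr'; exact hhr'))
      rw [← RingHom.map_det] at key
      have h1 := Link.comap π hπ key
      have h2 : ∀ g : Fin n → R, (Ideal.span (Set.range fun i => π (g i))).comap π =
          Ideal.span {h' 0} ⊔ Ideal.span (Set.range g) := by
        intro g
        have h3 : Ideal.span (Set.range fun i => π (g i)) = (Ideal.span (Set.range g)).map π := by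
          rw [Ideal.map_span, ← Set.range_comp]; rfl
        rw [h3, Ideal.comap_map_of_surjective _ hπ, ← RingHom.ker_eq_comap_bot, Ideal.mk_ker, sup_comm]
      rw [h2, h2, ← span_range_succ] at h1
      exact h1
    have hle : Ideal.span {h' 0} ⊔ 𝔣 ≤ Ideal.span (Set.range h') := by
      refine sup_le ?_ ?_
      · rw [Ideal.span_singleton_le_iff_mem]; exact Ideal.subset_span ⟨0, rfl⟩
      · rw [h𝔣, Ideal.span_le]
        rintro _ ⟨i, rfl⟩
        have h1 := span_mulVec_le M' h'
        rw [← hf'] at h1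
        exact h1 (Ideal.subset_span ⟨i.succ, rfl⟩)
    have hd := (hb.comp hle hc).congr (d' := h' 0 * M'.det) (by
      have h1 := det_mul_sub_mem f h' M' hf'
      rw [mul_comm (h' 0)]
      exact Submodule.mem_sup_right h1)
    rw [mul_comm (f 0)] at hd
    have he := ha.cancel hd
    rwa [h𝔣, ← span_range_succ] at he

end Groth.Agent.Ega4dB.Linkage
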