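import Mathlib.RingTheory.Filtration
import Mathlib.RingTheory.Flat.Stability
import Mathlib.RingTheory.Flat.Tensor
import Mathlib.RingTheory.Localization.Submodule
import Mathlib.RingTheory.Localization.AtPrime.Basic
import Mathlib.RingTheory.Flat.Localization
import Mathlib.RingTheory.Regular.RegularSequence
import Mathlib.RingTheory.TensorProduct.Quotient
import Mathlib.RingTheory.LocalRing.RingHom.Basic
import Mathlib.LinearAlgebra.TensorProduct.RightExactness

/-!
# A local criterion of flatness along an ideal of the source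

`B` a Noetherian algebra over an arbitrary ring `R`, `J` an ideal of `B` contained in the Jacobson radical.
* `flat_of_forall_quot`: if all `B ⧸ J ^ (n + 1)` are flat over `R` then so is `B`.
* `flat_of_regular`: if `f ∈ J` is a nonzerodivisor and `B ⧸ (f)` is flat over `R` then so is `B`.
* `flat_localization_of_forall_quot`, `flat_localization_of_regular`: the same for the local ring at a prime.
-/

set_option autoImplicit false

open TensorProduct

namespace Groth.Agent.Ega4dB.LocCrit854

universe u v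

variable {R : Type u} {B : Type v} [CommRing R] [CommRing B] [Algebra R B]

/-- Krull: `B` is flat over `R` if the kernels of `B ⊗ 𝔞 → B` are contained in all `J ^ n • (B ⊗ 𝔞)`. -/
theorem flat_of_forall_ker [IsNoetherianRing B] (J : Ideal B) (hJ : J ≤ (⊥ : Ideal B).jacobson)
    (h : ∀ 𝔞 : Ideal R, 𝔞.FG → ∀ n : ℕ, ∀ t : B ⊗[R] 𝔞, 𝔞.subtype.lTensor B t = 0 →
      t ∈ (J ^ n • ⊤ : Submodule B (B ⊗[R] 𝔞))) : Module.Flat R B := by
  rw [Module.Flat.iff_lTensor_injective]
  intro 𝔞 h𝔞
  rw [injective_iff_map_eq_zero]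
  intro t ht
  have h1 : Module.Finite R 𝔞 := Module.Finite.iff_fg.mpr h𝔞
  have h2 : Module.Finite B (B ⊗[R] 𝔞) := inferInstance
  have h3 := Ideal.iInf_pow_smul_eq_bot_of_le_jacobson (M := B ⊗[R] 𝔞) J hJ
  have h4 : t ∈ (⨅ i : ℕ, J ^ i • ⊤ : Submodule B (B ⊗[R] 𝔞)) := by
    rw [Submodule.mem_iInf]
    exact fun n => h 𝔞 h𝔞 n t ht
  rw [h3, Submodule.mem_bot] at h4
  exact h4

/-- The kernel of `B ⊗ 𝔞 → (B ⧸ J) ⊗ 𝔞`. -/
theorem mem_smul_of_map_eq_zero (J : Ideal B) (𝔞 : Ideal R) (t : B ⊗[R] 𝔞)
    (ht : ((J.restrictScalars R).mkQ).rTensor 𝔞 t = 0) : t ∈ (J • ⊤ : Submodule B (B ⊗[R] 𝔞)) := by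
  have hex : Function.Exact (J.restrictScalars R).subtype (J.restrictScalars R).mkQ := by
    rw [LinearMap.exact_iff, Submodule.ker_mkQ, Submodule.range_subtype]
  obtain ⟨s, rfl⟩ := (rTensor_exact 𝔞 hex (Submodule.mkQ_surjective _) t).1 ht
  clear ht
  induction s with
  | zero => rw [map_zero]; exact Submodule.zero_mem _
  | add a b ha hb => rw [map_add]; exact Submodule.add_mem _ ha hb
  | tmul a b =>
    rw [LinearMap.rTensor_tmul]
    have h1 : (((J.restrictScalars R).subtype a) ⊗ₜ[R] b : B ⊗[R] 𝔞) =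
        (a : B) • ((1 : B) ⊗ₜ[R] b) := by
      rw [TensorProduct.smul_tmul', smul_eq_mul, mul_one]; rfl
    rw [h1]
    exact Submodule.smul_mem_smul a.2 Submodule.mem_top

/-- **Local criterion of flatness along an ideal of the source**. -/
theorem flat_of_forall_quot [IsNoetherianRing B] (J : Ideal B) (hJ : J ≤ (⊥ : Ideal B).jacobson)
    (h : ∀ n : ℕ, Module.Flat R (B ⧸ J ^ (n + 1))) : Module.Flat R B := by
  refine flat_of_forall_ker J hJ fun 𝔞 _ n t ht => ?_
  have h0 : t ∈ (J ^ (n + 1) • ⊤ : Submodule B (B ⊗[R] 𝔞)) := by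
    apply mem_smul_of_map_eq_zero
    have hfl : Module.Flat R (B ⧸ (J ^ (n + 1)).restrictScalars R) := h n
    have hinj : Function.Injective (𝔞.subtype.lTensor (B ⧸ (J ^ (n + 1)).restrictScalars R)) :=
      Module.Flat.lTensor_preserves_injective_linearMap _ (Submodule.injective_subtype _)
    apply hinj
    rw [map_zero, ← LinearMap.comp_apply, LinearMap.lTensor_comp_rTensor,
      ← LinearMap.rTensor_comp_lTensor, LinearMap.comp_apply, ht, map_zero]
  exact Submodule.smul_mono_left (Ideal.pow_le_pow_right (Nat.le_succ n)) h0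

/-- `B` is flat over `R` if `B ⧸ (f)` is, where `f` is a nonzerodivisor in the Jacobson radical. -/
theorem flat_of_regular [IsNoetherianRing B] (f : B) (hf : f ∈ nonZeroDivisors B)
    (hJ : f ∈ (⊥ : Ideal B).jacobson) (h : Module.Flat R (B ⧸ Ideal.span {f})) : Module.Flat R B := by
  refine flat_of_forall_ker (Ideal.span {f}) ((Ideal.span_singleton_le_iff_mem _).2 hJ)
    fun 𝔞 _ n => ?_
  have key : ∀ t : B ⊗[R] 𝔞, 𝔞.subtype.lTensor B t = 0 → ∃ t' : B ⊗[R] 𝔞,
      𝔞.subtype.lTensor B t' = 0 ∧ f • t' = t := by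
    intro t ht
    have h1 : t ∈ (Ideal.span {f} • ⊤ : Submodule B (B ⊗[R] 𝔞)) := by
      apply mem_smul_of_map_eq_zero
      have hfl : Module.Flat R (B ⧸ (Ideal.span {f}).restrictScalars R) := h
      have hinj : Function.Injective (𝔞.subtype.lTensor (B ⧸ (Ideal.span {f}).restrictScalars R)) :=
        Module.Flat.lTensor_preserves_injective_linearMap _ (Submodule.injective_subtype _)
      apply hinj
      rw [map_zero, ← LinearMap.comp_apply, LinearMap.lTensor_comp_rTensor,
        ← LinearMap.rTensor_comp_lTensor, LinearMap.comp_apply, ht, map_zero]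
    rw [Submodule.ideal_span_singleton_smul, Submodule.mem_smul_pointwise_iff_exists] at h1
    obtain ⟨t', -, ht'⟩ := h1
    refine ⟨t', ?_, ht'⟩
    -- multiplication by `f` is injective on `B ⊗ R = B`
    have h2 : f • (𝔞.subtype.lTensor B t') = 0 := by
      rw [← ht, ← ht']
      exact ((AlgebraTensorModule.lTensor B B 𝔞.subtype).map_smul f t').symm
    have h3 : (TensorProduct.AlgebraTensorModule.rid R B B) (f • (𝔞.subtype.lTensor B t')) = 0 := by
      rw [h2, map_zero]
    rw [map_smul, smul_eq_mul] at h3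
    have h4 : (TensorProduct.AlgebraTensorModule.rid R B B) (𝔞.subtype.lTensor B t') = 0 := by
      rw [mul_comm] at h3
      exact (mem_nonZeroDivisors_iff.mp hf).2 _ h3
    exact (LinearEquiv.map_eq_zero_iff _).mp h4
  induction n with
  | zero => intro t _; rw [pow_zero, Ideal.one_eq_top, Submodule.top_smul]; trivial
  | succ n ih =>
    intro t ht
    obtain ⟨t', ht', rfl⟩ := key t ht
    rw [pow_succ', Submodule.mul_smul]
    exact Submodule.smul_mem_smul (Ideal.mem_span_singleton_self f) (ih t' ht')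

/-- Quotients of a localization are flat if the quotients are. -/
theorem flat_quot_map {B' : Type v} [CommRing B'] [Algebra B B'] [Algebra R B'] [IsScalarTower R B B']
    [Module.Flat B B'] (J : Ideal B) [h : Module.Flat R (B ⧸ J)] :
    Module.Flat R (B' ⧸ J.map (algebraMap B B')) := by
  have h1 : Module.Flat (B ⧸ J) ((B ⧸ J) ⊗[B] B') := inferInstance
  have h2 : Module.Flat R ((B ⧸ J) ⊗[B] B') := Module.Flat.trans R (B ⧸ J) _
  let e : ((B ⧸ J) ⊗[B] B') ≃ₐ[B] (B' ⧸ J.map (algebraMap B B')) :=
    (Algebra.TensorProduct.comm B _ _).trans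
      ((Algebra.TensorProduct.quotIdealMapEquivTensorQuot B' J).symm.restrictScalars B)
  exact Module.Flat.of_linearEquiv ((e.toLinearEquiv.restrictScalars R).symm)

/-- The local criterion at a prime `q ⊇ J`: if all `B ⧸ J ^ (n + 1)` are flat over `R` then `B_q` is. -/
theorem flat_localization_of_forall_quot [IsNoetherianRing B] (J : Ideal B)
    (h : ∀ n : ℕ, Module.Flat R (B ⧸ J ^ (n + 1))) (q : Ideal B) [q.IsPrime] (hq : J ≤ q) :
    Module.Flat R (Localization.AtPrime q) := by
  have : IsNoetherianRing (Localization.AtPrime q) :=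
    IsLocalization.isNoetherianRing q.primeCompl _ inferInstance
  refine flat_of_forall_quot (J.map (algebraMap B (Localization.AtPrime q))) ?_ fun n => ?_
  · rw [IsLocalRing.jacobson_eq_maximalIdeal ⊥ bot_ne_top,
      ← Localization.AtPrime.map_eq_maximalIdeal]
    exact Ideal.map_mono hq
  · have := h n
    rw [← Ideal.map_pow]
    exact flat_quot_map (B' := Localization.AtPrime q) (J ^ (n + 1))

/-- The local criterion at a prime `q ∋ f`: if `f` is a nonzerodivisor and `B ⧸ (f)` is flat over `R`
then `B_q` is. -/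
theorem flat_localization_of_regular [IsNoetherianRing B] (f : B) (hf : f ∈ nonZeroDivisors B)
    (h : Module.Flat R (B ⧸ Ideal.span {f})) (q : Ideal B) [q.IsPrime] (hq : f ∈ q) :
    Module.Flat R (Localization.AtPrime q) := by
  have : IsNoetherianRing (Localization.AtPrime q) :=
    IsLocalization.isNoetherianRing q.primeCompl _ inferInstance
  refine flat_of_regular (algebraMap B (Localization.AtPrime q) f) ?_ ?_ ?_
  · exact IsLocalization.map_nonZeroDivisors_le q.primeCompl _ (Submonoid.mem_map_of_mem _ hf)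
  · rw [IsLocalRing.jacobson_eq_maximalIdeal ⊥ bot_ne_top,
      ← Localization.AtPrime.map_eq_maximalIdeal]
    exact Ideal.mem_map_of_mem _ hq
  · have := flat_quot_map (R := R) (B' := Localization.AtPrime q) (Ideal.span {f})
    rwa [Ideal.map_span, Set.image_singleton] at this

end Groth.Agent.Ega4dB.LocCrit854
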