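import Groth.Agent.Fdesc.QCohStalk
import Groth.Agent.Ega4dB.DepthExt

/-!
Extension of sections of quasi-coherent modules across closed subsets which are locally contained in
the zero locus of a regular pair.
-/

universe u

open CategoryTheory AlgebraicGeometry TopologicalSpace Opposite

namespace Groth.Agent.Ega4dB.ModExt

open Groth.Agent.Fdesc.QCohStalk

variable {X : Scheme.{u}} (H : X.Modules)

/-- Restriction of sections of a module. -/
noncomputable abbrev mres {V W : X.Opens} (h : W ≤ V) (s : Γ(H, V)) : Γ(H, W) :=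
  H.presheaf.map (homOfLE h).op s

lemma mres_mres {V W W' : X.Opens} (h : W ≤ V) (h' : W' ≤ W) (s : Γ(H, V)) :
    mres H h' (mres H h s) = mres H (h'.trans h) s := map_map H h h' s

lemma mres_self {V : X.Opens} (s : Γ(H, V)) (h : V ≤ V) : mres H h s = s := map_self H h s

lemma mres_smul {V W : X.Opens} (h : W ≤ V) (r : Γ(X, V)) (s : Γ(H, V)) :
    mres H h (r • s) = DepthExt.res X h r • mres H h s := map_smul' H h r s

lemma mres_add {V W : X.Opens} (h : W ≤ V) (s t : Γ(H, V)) :
    mres H h (s + t) = mres H h s + mres H h t := map_add _ _ _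

lemma mres_sub {V W : X.Opens} (h : W ≤ V) (s t : Γ(H, V)) :
    mres H h (s - t) = mres H h s - mres H h t := map_sub _ _ _

lemma mres_zero {V W : X.Opens} (h : W ≤ V) : mres H h (0 : Γ(H, V)) = 0 := map_zero _

lemma smul_left_cancel_of_isUnit {V : X.Opens} {r : Γ(X, V)} (hr : IsUnit r) {s t : Γ(H, V)}
    (h : r • s = r • t) : s = t := by
  obtain ⟨u, rfl⟩ := hr
  have h2 := congrArg (fun z => (↑u⁻¹ : Γ(X, V)) • z) h
  simpa [smul_smul] using h2

variable {H}

/-- If `f` is regular on `Γ(H, V)`, `V` affine, `H` quasi-coherent, then sections of `H` over opens of `V`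
are determined by their restriction to the locus where `f` is invertible. -/
theorem eq_zero_of_res_basicOpen (hH : Coh.IsQCoh H) {V : X.Opens} (hV : IsAffineOpen V)
    (f : Γ(X, V)) (hf : IsSMulRegular Γ(H, V) f) {W : X.Opens} (hW : W ≤ V) (s : Γ(H, W))
    (hs : mres H (inf_le_left : W ⊓ X.basicOpen f ≤ W) s = 0) : s = 0 := by
  apply H.isSheaf.section_ext
  intro x hx
  obtain ⟨h, hh, hxh⟩ := hV.exists_basicOpen_le ⟨x, hx⟩ (hW hx)
  refine ⟨X.basicOpen h, hh, hxh, ?_⟩
  change mres H hh s = mres H hh 0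
  rw [mres_zero]
  obtain ⟨n, a, ha⟩ := exists_map_eq_pow_smul H hV hH h (mres H hh s)
  replace ha : mres H (X.basicOpen_le h) a =
    (DepthExt.res X (X.basicOpen_le h) h) ^ n • mres H hh s := ha
  have h1 : mres H (X.basicOpen_le (h * f)) a = 0 := by
    have hle : X.basicOpen (h * f) ≤ X.basicOpen h := by
      rw [X.basicOpen_mul]; exact inf_le_left
    have hle' : X.basicOpen (h * f) ≤ W ⊓ X.basicOpen f := by
      rw [X.basicOpen_mul]; exact inf_le_inf hh le_rfl
    have h2 := congrArg (mres H hle) ha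
    rw [mres_smul, mres_mres, mres_mres] at h2
    rw [h2, ← mres_mres H (inf_le_left : W ⊓ X.basicOpen f ≤ W) hle', hs, mres_zero, smul_zero]
  obtain ⟨m, hm⟩ := exists_pow_smul_eq_zero H hV hH (h * f) a h1
  have h3 : h ^ m • a = 0 := by
    have h4 : IsSMulRegular Γ(H, V) (f ^ m) := IsSMulRegular.pow m hf
    apply h4
    simp only [smul_zero, smul_smul]
    rw [← hm, mul_pow, mul_comm]
  have hu : IsUnit (DepthExt.res X (X.basicOpen_le h) h) := DepthExt.isUnit_res_basicOpen h
  have h5 : mres H (X.basicOpen_le h) a = 0 := by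
    have h6 := congrArg (mres H (X.basicOpen_le h)) h3
    rw [mres_smul, map_pow, mres_zero] at h6
    apply smul_left_cancel_of_isUnit H (hu.pow m)
    rw [h6, smul_zero]
  rw [h5] at ha
  apply smul_left_cancel_of_isUnit H (hu.pow n)
  rw [← ha, smul_zero]

lemma exists_smul_pow {A : Type u} [CommRing A] {M : Type u} [AddCommGroup M] [Module A M] (f g : A)
    (hf : IsSMulRegular M f) (h : ∀ c : M, (∃ b, g • c = f • b) → ∃ b, c = f • b) (m n : ℕ) (c : M)
    (hc : ∃ b, g ^ m • c = f ^ n • b) : ∃ b, c = f ^ n • b := by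
  have h1 : ∀ (m : ℕ) (c : M), (∃ b, g ^ m • c = f • b) → ∃ b, c = f • b := by
    intro m
    induction m with
    | zero => intro c hc; simpa using hc
    | succ m ih =>
      rintro c ⟨b, hb⟩
      apply h
      apply ih
      refine ⟨b, ?_⟩
      rw [← mul_smul, ← pow_succ, hb]
  induction n generalizing c with
  | zero => exact ⟨c, by simp⟩
  | succ n ih =>
    obtain ⟨b, hb⟩ := hc
    obtain ⟨c', rfl⟩ := h1 m c ⟨f ^ n • b, by rw [hb, ← mul_smul, ← pow_succ']⟩
    obtain ⟨b', hb'⟩ := ih c' ⟨b, by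
      apply hf
      change f • (g ^ m • c') = f • (f ^ n • b)
      rw [← mul_smul f (f ^ n), ← pow_succ', ← hb, smul_comm]⟩
    exact ⟨b', by rw [hb', ← mul_smul, ← pow_succ']⟩

/-- Extension of sections: `V` affine, `f, g` a regular pair on `Γ(H, V)` with `D(f), D(g) ⊆ U`. -/
theorem exists_extension (hH : Coh.IsQCoh H) {V U : X.Opens} (hV : IsAffineOpen V)
    (f g : Γ(X, V)) (hfU : X.basicOpen f ≤ U) (hgU : X.basicOpen g ≤ U)
    (hf : IsSMulRegular Γ(H, V) f) (hfg : ∀ c : Γ(H, V), (∃ b, g • c = f • b) → ∃ b, c = f • b)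
    (s : Γ(H, V ⊓ U)) : ∃ c : Γ(H, V), mres H (inf_le_left : V ⊓ U ≤ V) c = s := by
  have hf' : X.basicOpen f ≤ V ⊓ U := le_inf (X.basicOpen_le f) hfU
  have hg' : X.basicOpen g ≤ V ⊓ U := le_inf (X.basicOpen_le g) hgU
  obtain ⟨n, a, ha⟩ := exists_map_eq_pow_smul H hV hH f (mres H hf' s)
  obtain ⟨m, b, hb⟩ := exists_map_eq_pow_smul H hV hH g (mres H hg' s)
  replace ha : mres H (X.basicOpen_le f) a =
    (DepthExt.res X (X.basicOpen_le f) f) ^ n • mres H hf' s := ha
  replace hb : mres H (X.basicOpen_le g) b =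
    (DepthExt.res X (X.basicOpen_le g) g) ^ m • mres H hg' s := hb
  have hlef : X.basicOpen (f * g) ≤ X.basicOpen f := by
    rw [X.basicOpen_mul]; exact inf_le_left
  have hleg : X.basicOpen (f * g) ≤ X.basicOpen g := by
    rw [X.basicOpen_mul]; exact inf_le_right
  have ha' := congrArg (mres H hlef) ha
  have hb' := congrArg (mres H hleg) hb
  rw [mres_smul, mres_mres, mres_mres, map_pow, DepthExt.res_res] at ha' hb'
  have h1 : mres H (X.basicOpen_le (f * g)) (g ^ m • a - f ^ n • b) = 0 := by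
    rw [mres_sub, mres_smul, mres_smul, ha', hb', map_pow, map_pow, smul_smul, smul_smul,
      mul_comm (_ ^ m), sub_self]
  obtain ⟨k, hk⟩ := exists_pow_smul_eq_zero H hV hH (f * g) _ h1
  have h2 : g ^ k • (g ^ m • a - f ^ n • b) = 0 := by
    have h4 : IsSMulRegular Γ(H, V) (f ^ k) := IsSMulRegular.pow k hf
    apply h4
    simp only [smul_zero, smul_smul]
    rw [← hk, mul_pow]
  have h3 : ∃ c, a = f ^ n • c := by
    apply exists_smul_pow f g hf hfg (k + m) n
    refine ⟨g ^ k • b, ?_⟩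
    rw [smul_sub, sub_eq_zero, ← mul_smul, ← pow_add] at h2
    rw [h2, smul_comm]
  obtain ⟨c, hc⟩ := h3
  refine ⟨c, ?_⟩
  rw [← sub_eq_zero]
  apply eq_zero_of_res_basicOpen hH hV f hf inf_le_left
  have hle : V ⊓ U ⊓ X.basicOpen f ≤ X.basicOpen f := inf_le_right
  rw [mres_sub, mres_mres, ← mres_mres H (X.basicOpen_le f) hle, ← mres_mres H hf' hle, ← mres_sub]
  rw [← mres_zero H hle]
  congr 1
  have hu : IsUnit (DepthExt.res X (X.basicOpen_le f) f) := DepthExt.isUnit_res_basicOpen f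
  apply smul_left_cancel_of_isUnit H (hu.pow n)
  rw [smul_sub, ← ha, hc, mres_smul, map_pow, smul_zero, sub_self]

end Groth.Agent.Ega4dB.ModExt
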