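import Groth.Agent.Ega4dB.ModExt

/-!
The unit `H ⟶ j_* j^* H` for a quasi-coherent module `H` and an open subscheme `j : U ⟶ X` is a
monomorphism (an isomorphism) if locally there is an `H`-regular element (regular pair) vanishing
outside `U`.
-/

universe u

open CategoryTheory AlgebraicGeometry TopologicalSpace Opposite

namespace Groth.Agent.Ega4dB.ModExt2

open Groth.Agent.Fdesc.QCohStalk Groth.Agent.Ega4dB.ModExt

variable {X : Scheme.{u}} {H : X.Modules}

theorem regular_res (hH : Coh.IsQCoh H) {V : X.Opens} (hV : IsAffineOpen V)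
    (f : Γ(X, V)) (hf : IsSMulRegular Γ(H, V) f) (h : Γ(X, V)) :
    IsSMulRegular Γ(H, X.basicOpen h) (DepthExt.res X (X.basicOpen_le h) f) := by
  have hu : IsUnit (DepthExt.res X (X.basicOpen_le h) h) := DepthExt.isUnit_res_basicOpen h
  rw [isSMulRegular_iff_right_eq_zero_of_smul]
  intro t ht
  obtain ⟨n, a, ha⟩ := exists_map_eq_pow_smul H hV hH h t
  replace ha : mres H (X.basicOpen_le h) a = (DepthExt.res X (X.basicOpen_le h) h) ^ n • t := ha
  have h1 : mres H (X.basicOpen_le h) (f • a) = 0 := by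
    rw [mres_smul, ha, smul_comm, ht, smul_zero]
  obtain ⟨m, hm⟩ := exists_pow_smul_eq_zero H hV hH h _ h1
  rw [smul_comm] at hm
  have h2 : h ^ m • a = 0 := by
    apply hf
    simp only [smul_zero]
    exact hm
  have h3 := congrArg (mres H (X.basicOpen_le h)) h2
  rw [mres_smul, map_pow, mres_zero, ha] at h3
  apply smul_left_cancel_of_isUnit H (hu.pow n)
  apply smul_left_cancel_of_isUnit H (hu.pow m)
  rw [h3, smul_zero, smul_zero]

theorem regular_pair_res (hH : Coh.IsQCoh H) {V : X.Opens} (hV : IsAffineOpen V)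
    (f g : Γ(X, V)) (hfg : ∀ c : Γ(H, V), (∃ b, g • c = f • b) → ∃ b, c = f • b) (h : Γ(X, V))
    (c : Γ(H, X.basicOpen h))
    (hc : ∃ b, DepthExt.res X (X.basicOpen_le h) g • c = DepthExt.res X (X.basicOpen_le h) f • b) :
    ∃ b, c = DepthExt.res X (X.basicOpen_le h) f • b := by
  have hu : IsUnit (DepthExt.res X (X.basicOpen_le h) h) := DepthExt.isUnit_res_basicOpen h
  obtain ⟨b, hb⟩ := hc
  obtain ⟨n, c0, hc0⟩ := exists_map_eq_pow_smul H hV hH h c
  replace hc0 : mres H (X.basicOpen_le h) c0 = (DepthExt.res X (X.basicOpen_le h) h) ^ n • c := hc0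
  obtain ⟨k, b0, hb0⟩ := exists_map_eq_pow_smul H hV hH h b
  replace hb0 : mres H (X.basicOpen_le h) b0 = (DepthExt.res X (X.basicOpen_le h) h) ^ k • b := hb0
  have h1 : mres H (X.basicOpen_le h) (g • (h ^ k • c0) - f • (h ^ n • b0)) = 0 := by
    rw [mres_sub, mres_smul, mres_smul, mres_smul, mres_smul, map_pow, map_pow, hc0, hb0]
    rw [smul_comm _ ((DepthExt.res X (X.basicOpen_le h) h) ^ k), smul_comm _ ((DepthExt.res X (X.basicOpen_le h) h) ^ n) c,
      hb]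
    simp only [smul_smul]
    rw [sub_eq_zero]
    congr 1
    ring
  obtain ⟨m, hm⟩ := exists_pow_smul_eq_zero H hV hH h _ h1
  obtain ⟨d, hd⟩ := hfg (h ^ m • (h ^ k • c0)) ⟨h ^ m • (h ^ n • b0), by
    rw [smul_sub, sub_eq_zero] at hm
    rw [smul_comm, hm, smul_comm]⟩
  have h3 := congrArg (mres H (X.basicOpen_le h)) hd
  rw [mres_smul, mres_smul, mres_smul, map_pow, map_pow, hc0] at h3
  obtain ⟨v, hv⟩ := hu
  refine ⟨(↑(v⁻¹ ^ n) * ↑(v⁻¹ ^ k) * ↑(v⁻¹ ^ m) : Γ(X, X.basicOpen h)) • mres H (X.basicOpen_le h) d, ?_⟩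
  rw [smul_comm, ← h3, ← hv]
  simp only [smul_smul]
  have : (↑(v⁻¹ ^ n) * ↑(v⁻¹ ^ k) * ↑(v⁻¹ ^ m) * ((v : Γ(X, X.basicOpen h)) ^ m * (↑v ^ k * ↑v ^ n)) :
      Γ(X, X.basicOpen h)) = 1 := by
    norm_cast
    rw [← Units.val_one]
    congr 1
    rw [inv_pow, inv_pow, inv_pow]
    group
  rw [this, one_smul]

/-- Locally there is an `H`-regular element vanishing outside `U`. -/
def HasRegElt (H : X.Modules) (U : X.Opens) : Prop :=
  ∀ x : X, ∃ (V : X.Opens) (_ : IsAffineOpen V) (_ : x ∈ V) (f : Γ(X, V)),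
    X.basicOpen f ≤ U ∧ IsSMulRegular Γ(H, V) f

/-- Locally there is an `H`-regular pair vanishing outside `U`. -/
def HasRegPair (H : X.Modules) (U : X.Opens) : Prop :=
  ∀ x : X, ∃ (V : X.Opens) (_ : IsAffineOpen V) (_ : x ∈ V) (f g : Γ(X, V)),
    X.basicOpen f ≤ U ∧ X.basicOpen g ≤ U ∧ IsSMulRegular Γ(H, V) f ∧
      ∀ c : Γ(H, V), (∃ b, g • c = f • b) → ∃ b, c = f • b

lemma HasRegPair.hasRegElt {U : X.Opens} (h : HasRegPair H U) : HasRegElt H U := by
  intro x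
  obtain ⟨V, hV, hx, f, g, hf, -, hreg, -⟩ := h x
  exact ⟨V, hV, hx, f, hf, hreg⟩

theorem mres_injective (hH : Coh.IsQCoh H) {U : X.Opens} (h : HasRegElt H U) {W W' : X.Opens}
    (hW' : W' ≤ W) (hWU : W ⊓ U ≤ W') : Function.Injective (mres H hW') := by
  intro s t hst
  rw [← sub_eq_zero]
  have hst' : mres H hW' (s - t) = 0 := by rw [mres_sub, hst, sub_self]
  generalize s - t = r at hst'
  apply H.isSheaf.section_ext
  intro x hx
  obtain ⟨V, hV, hxV, f, hfU, hf⟩ := h x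
  have hle : W ⊓ V ≤ W := inf_le_left
  refine ⟨W ⊓ V, hle, ⟨hx, hxV⟩, ?_⟩
  change mres H hle r = mres H hle 0
  rw [mres_zero]
  apply eq_zero_of_res_basicOpen hH hV f hf inf_le_right
  rw [mres_mres]
  have hle2 : W ⊓ V ⊓ X.basicOpen f ≤ W' := (inf_le_inf hle hfU).trans hWU
  rw [← mres_mres H hW' hle2, hst', mres_zero]

theorem mres_surjective (hH : Coh.IsQCoh H) {U : X.Opens} (h : HasRegPair H U) (W : X.Opens) :
    Function.Surjective (mres H (inf_le_left : W ⊓ U ≤ W)) := by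
  intro s
  have hinj : ∀ W : X.Opens, Function.Injective (mres H (inf_le_left : W ⊓ U ≤ W)) := fun W =>
    mres_injective hH h.hasRegElt inf_le_left le_rfl
  let ι := {V : X.Opens // V ≤ W ∧ Function.Surjective (mres H (inf_le_left : V ⊓ U ≤ V))}
  have hex : ∀ i : ι, ∃ t : Γ(H, i.1), mres H (inf_le_left : i.1 ⊓ U ≤ i.1) t =
      mres H (inf_le_inf_right U i.2.1 : i.1 ⊓ U ≤ W ⊓ U) s := fun i => i.2.2 _
  choose t ht using hex
  have hcompat : TopCat.Presheaf.IsCompatible H.presheaf (fun i : ι => i.1) t := by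
    intro i j
    apply hinj (i.1 ⊓ j.1)
    change mres H _ (mres H inf_le_left (t i)) = mres H _ (mres H inf_le_right (t j))
    rw [mres_mres, mres_mres]
    have e1 : i.1 ⊓ j.1 ⊓ U ≤ i.1 ⊓ U := inf_le_inf_right U inf_le_left
    have e2 : i.1 ⊓ j.1 ⊓ U ≤ j.1 ⊓ U := inf_le_inf_right U inf_le_right
    rw [← mres_mres H (inf_le_left : i.1 ⊓ U ≤ i.1) e1, ← mres_mres H (inf_le_left : j.1 ⊓ U ≤ j.1) e2,
      ht, ht, mres_mres, mres_mres]
  have hcover : W ≤ ⨆ i : ι, i.1 := by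
    intro x hx
    obtain ⟨V, hV, hxV, f, g, hfU, hgU, hf, hfg⟩ := h x
    obtain ⟨a, haW, hxa⟩ := hV.exists_basicOpen_le (V := W) ⟨x, hx⟩ hxV
    rw [Opens.mem_iSup]
    refine ⟨⟨X.basicOpen a, haW, ?_⟩, hxa⟩
    intro r
    have hf2 : X.basicOpen (DepthExt.res X (X.basicOpen_le a) f) ≤ U := by
      have : X.basicOpen (DepthExt.res X (X.basicOpen_le a) f) = X.basicOpen a ⊓ X.basicOpen f :=
        X.basicOpen_res f _
      rw [this]
      exact inf_le_right.trans hfU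
    have hg2 : X.basicOpen (DepthExt.res X (X.basicOpen_le a) g) ≤ U := by
      have : X.basicOpen (DepthExt.res X (X.basicOpen_le a) g) = X.basicOpen a ⊓ X.basicOpen g :=
        X.basicOpen_res g _
      rw [this]
      exact inf_le_right.trans hgU
    exact exists_extension hH (hV.basicOpen a) _ _ hf2 hg2 (regular_res hH hV f hf a)
      (regular_pair_res hH hV f g hfg a) r
  obtain ⟨gl, hgl, -⟩ := TopCat.Sheaf.existsUnique_gluing' ⟨_, H.isSheaf⟩ (fun i : ι => i.1) W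
    (fun i => homOfLE i.2.1) hcover t hcompat
  refine ⟨gl, ?_⟩
  apply H.isSheaf.section_ext
  intro x hx
  have hxW : x ∈ W := hx.1
  obtain ⟨i, hi⟩ := Opens.mem_iSup.mp (hcover hxW)
  have hle : i.1 ⊓ U ≤ W ⊓ U := inf_le_inf_right U i.2.1
  refine ⟨i.1 ⊓ U, hle, ⟨hi, hx.2⟩, ?_⟩
  change mres H hle (mres H _ gl) = mres H hle s
  rw [mres_mres]
  have h2 : mres H i.2.1 gl = t i := hgl i
  rw [← mres_mres H i.2.1 (inf_le_left : i.1 ⊓ U ≤ i.1), h2]
  exact ht i

theorem mono_unit (hH : Coh.IsQCoh H) {U : X.Opens} (h : HasRegElt H U) :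
    Mono ((Scheme.Modules.restrictAdjunction U.ι).unit.app H) := by
  apply (Scheme.Modules.toPresheaf X).mono_of_mono_map
  rw [NatTrans.mono_iff_mono_app]
  intro W
  rw [AddCommGrpCat.mono_iff_injective]
  have h1 := mres_injective hH h (W := W.unop) (W' := U.ι ''ᵁ (U.ι ⁻¹ᵁ W.unop))
    (U.ι.image_preimage_le W.unop) (by
      rintro y ⟨hy, hy'⟩
      exact ⟨⟨y, hy'⟩, hy, rfl⟩)
  exact h1

theorem isIso_unit (hH : Coh.IsQCoh H) {U : X.Opens} (h : HasRegPair H U) :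
    IsIso ((Scheme.Modules.restrictAdjunction U.ι).unit.app H) := by
  rw [Scheme.Modules.Hom.isIso_iff_isIso_app]
  intro W
  rw [ConcreteCategory.isIso_iff_bijective, Scheme.Modules.restrictAdjunction_unit_app_app]
  have heq : U.ι ''ᵁ (U.ι ⁻¹ᵁ W) = W ⊓ U := by
    ext y
    constructor
    · rintro ⟨z, hz, rfl⟩
      exact ⟨hz, z.2⟩
    · rintro ⟨hy, hy'⟩
      exact ⟨⟨y, hy'⟩, hy, rfl⟩
  have key : ∀ (W' : X.Opens) (hW' : W' ≤ W), W' = W ⊓ U → Function.Bijective (mres H hW') := by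
    rintro W' hW' rfl
    exact ⟨mres_injective hH h.hasRegElt hW' le_rfl, mres_surjective hH h W⟩
  exact key _ _ heq

end Groth.Agent.Ega4dB.ModExt2
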