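import Mathlib.RingTheory.Regular.RegularSequence
import Mathlib.LinearAlgebra.Matrix.Adjugate
import Mathlib.LinearAlgebra.Matrix.Determinant.Basic
import Mathlib.RingTheory.Ideal.AssociatedPrime.Finiteness
import Mathlib.RingTheory.LocalRing.RingHom.Basic
import Mathlib.RingTheory.LocalRing.Quotient

/-!
# Colon ideals of regular sequences and determinants (Wiebe's lemma)

If `a = M b` with `a` a regular sequence in a Noetherian local ring then
`(a) : (b) ≤ (a) + (det M)`.
-/

set_option autoImplicit false
universe u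

open RingTheory.Sequence IsLocalRing
open scoped Pointwise

namespace Groth.Agent.Ega4dB.Wiebe854

/-- Coset version of prime avoidance. -/
theorem exists_add_notMem {R : Type*} [CommRing R] (S : Finset (Ideal R))
    (hS : ∀ P ∈ S, P.IsPrime) (x : R) (J : Ideal R) (h : ∀ P ∈ S, ¬ (x ∈ P ∧ J ≤ P)) :
    ∃ y ∈ J, ∀ P ∈ S, x + y ∉ P := by
  classical
  induction S using Finset.strongInduction with
  | H S ih =>
    rcases S.eq_empty_or_nonempty with rfl | hne
    · exact ⟨0, J.zero_mem, by simp⟩
    · obtain ⟨P₀, hP₀⟩ := S.exists_minimal hne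
      obtain ⟨y, hyJ, hy⟩ := ih (S.erase P₀) (Finset.erase_ssubset hP₀.1)
        (fun P hP => hS P (Finset.mem_of_mem_erase hP))
        (fun P hP => h P (Finset.mem_of_mem_erase hP))
      by_cases hxy : x + y ∈ P₀
      · have hJ : ¬ J ≤ P₀ := by
          intro hJ
          refine h P₀ hP₀.1 ⟨?_, hJ⟩
          have := P₀.sub_mem hxy (hJ hyJ)
          simpa using this
        have hprime := hS P₀ hP₀.1
        have hnot : ¬ (J ⊓ (S.erase P₀).inf id) ≤ P₀ := by
          rw [hprime.inf_le]
          rintro (h1 | h1)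
          · exact hJ h1
          · obtain ⟨P, hP, hPP⟩ := hprime.inf_le'.1 h1
            have h2 := hP₀.2 (Finset.mem_of_mem_erase hP) hPP
            exact Finset.ne_of_mem_erase hP (le_antisymm hPP h2)
        obtain ⟨z, hz, hz'⟩ := Set.not_subset.1 hnot
        refine ⟨y + z, J.add_mem hyJ hz.1, fun P hP hmem => ?_⟩
        by_cases hPP : P = P₀
        · subst hPP
          apply hz'
          have := P.sub_mem hmem hxy
          simpa [← add_assoc] using this
        · have hPe : P ∈ S.erase P₀ := Finset.mem_erase.2 ⟨hPP, hP⟩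
          have hzP : z ∈ P := (Finset.inf_le (f := id) hPe) hz.2
          apply hy P hPe
          have := P.sub_mem hmem hzP
          rw [← add_assoc] at this
          simpa using this
      · refine ⟨y, hyJ, fun P hP => ?_⟩
        by_cases hPP : P = P₀
        · rw [hPP]; exact hxy
        · exact hy P (Finset.mem_erase.2 ⟨hPP, hP⟩)

lemma ofList_ofFn {R : Type*} [CommRing R] {n : ℕ} (f : Fin n → R) :
    Ideal.ofList (List.ofFn f) = Ideal.span (Set.range f) := by
  unfold Ideal.ofList
  congr 1
  ext x
  simp [List.mem_ofFn]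

/-- `a` regular on `R/I` in terms of elements. -/
lemma isSMulRegular_quot_iff {R : Type*} [CommRing R] (l : List R) (a : R) :
    IsSMulRegular (R ⧸ (Ideal.ofList l • (⊤ : Submodule R R))) a ↔
      ∀ y, a * y ∈ Ideal.ofList l → y ∈ Ideal.ofList l := by
  rw [isSMulRegular_on_quot_iff_lsmul_comap_le]
  have h1 : (Ideal.ofList l • (⊤ : Submodule R R)) = Ideal.ofList l := by
    rw [smul_eq_mul, Ideal.mul_top]
  rw [h1]
  exact Iff.rfl

lemma isWeaklyRegular_concat_iff {R : Type*} [CommRing R] (l : List R) (a : R) :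
    IsWeaklyRegular R (l ++ [a]) ↔ IsWeaklyRegular R l ∧
      ∀ y, a * y ∈ Ideal.ofList l → y ∈ Ideal.ofList l := by
  rw [isWeaklyRegular_append_iff, isWeaklyRegular_singleton_iff, isSMulRegular_quot_iff]

lemma isWeaklyRegular_quot {R : Type*} [CommRing R] (l : List R) (a : R)
    (h : IsWeaklyRegular R (a :: l)) :
    IsWeaklyRegular (R ⧸ Ideal.span {a}) (l.map (Ideal.Quotient.mk (Ideal.span {a}))) := by
  have h1 := ((isWeaklyRegular_cons_iff R a l).1 h).2
  have h2 : (a • (⊤ : Submodule R R)) = (Ideal.span {a} : Ideal R) := by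
    rw [← Submodule.ideal_span_singleton_smul, smul_eq_mul, Ideal.mul_top]
  have h3 : IsWeaklyRegular (R ⧸ Ideal.span {a}) l :=
    ((Submodule.quotEquivOfEq _ _ h2).isWeaklyRegular_congr l).1 h1
  exact (isWeaklyRegular_map_algebraMap_iff (R ⧸ Ideal.span {a}) (R ⧸ Ideal.span {a}) l).2 h3

lemma exists_of_mem_associatedPrimes {R : Type*} [CommRing R] [IsNoetherianRing R] (I P : Ideal R)
    (hP : P ∈ associatedPrimes R (R ⧸ I)) (r : R) (hr : r ∈ P) : ∃ z, z ∉ I ∧ r * z ∈ I := by
  have h1 : r ∈ ⋃ p ∈ associatedPrimes R (R ⧸ I), (p : Set R) := Set.mem_biUnion hP hr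
  rw [biUnion_associatedPrimes_eq_zero_divisors] at h1
  obtain ⟨z, hz, hrz⟩ := h1
  obtain ⟨z, rfl⟩ := Ideal.Quotient.mk_surjective z
  refine ⟨z, fun h => hz (Ideal.Quotient.eq_zero_iff_mem.2 h), ?_⟩
  rw [Algebra.smul_def] at hrz
  exact Ideal.Quotient.eq_zero_iff_mem.1 (by rw [map_mul]; exact hrz)

lemma mem_of_forall_notMem {R : Type*} [CommRing R] [IsNoetherianRing R] (I : Ideal R) (r : R)
    (h : ∀ P ∈ associatedPrimes R (R ⧸ I), r ∉ P) (z : R) (hz : r * z ∈ I) : z ∈ I := by
  by_contra hzI
  have h1 : r ∈ ⋃ p ∈ associatedPrimes R (R ⧸ I), (p : Set R) := by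
    rw [biUnion_associatedPrimes_eq_zero_divisors]
    refine ⟨Ideal.Quotient.mk I z, fun h => hzI (Ideal.Quotient.eq_zero_iff_mem.1 h), ?_⟩
    rw [Algebra.smul_def]
    exact (Ideal.Quotient.eq_zero_iff_mem.2 hz : Ideal.Quotient.mk I (r * z) = 0)
  obtain ⟨P, hP, hrP⟩ := Set.mem_iUnion₂.1 h1
  exact h P hP hrP

/-- **Wiebe's lemma**: `a = M b`, `a` a regular sequence: `(a) : (b) ≤ (a) + (det M)`. -/
theorem colon_le (n : ℕ) : ∀ {R : Type u} [CommRing R] [IsLocalRing R] [IsNoetherianRing R]
    (M : Matrix (Fin n) (Fin n) R) (b : Fin n → R)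
    (_ : IsWeaklyRegular R (List.ofFn (M.mulVec b)))
    (_ : ∀ i, M.mulVec b i ∈ maximalIdeal R) (x : R)
    (_ : ∀ j, x * b j ∈ Ideal.span (Set.range (M.mulVec b))),
    x ∈ Ideal.span (Set.range (M.mulVec b)) ⊔ Ideal.span {M.det} := by
  induction n with
  | zero =>
    intro R _ _ _ M b _ _ x _
    refine Ideal.mem_sup_right ?_
    rw [Matrix.det_isEmpty, Ideal.span_singleton_one]
    trivial
  | succ n ih =>
    intro R _ _ _ M b hreg hmax x hx
    classical
    set a := M.mulVec b with ha
    -- the initial segment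
    let l : List R := List.ofFn (fun i : Fin n => a i.castSucc)
    have hl : List.ofFn a = l ++ [a (Fin.last n)] := by
      rw [List.ofFn_succ', List.concat_eq_append]
    have hlmem : ∀ r ∈ l, r ∈ maximalIdeal R := by
      intro r hr
      obtain ⟨i, rfl⟩ := (List.mem_ofFn' _ _).1 hr
      exact hmax _
    rw [hl, isWeaklyRegular_concat_iff] at hreg
    obtain ⟨hlreg, hlast⟩ := hreg
    set I : Ideal R := Ideal.ofList l with hI
    have hIa : ∀ i : Fin n, a i.castSucc ∈ I := fun i =>
      Ideal.subset_span ((List.mem_ofFn' _ _).2 ⟨i, rfl⟩)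
    have hspan : ∀ z, z ∈ Ideal.span (Set.range a) ↔ ∃ c, z - c * a (Fin.last n) ∈ I := by
      intro z
      rw [← ofList_ofFn, hl, Ideal.ofList_append, Ideal.ofList_singleton, Submodule.mem_sup]
      constructor
      · rintro ⟨u, hu, v, hv, rfl⟩
        obtain ⟨c, rfl⟩ := Ideal.mem_span_singleton'.1 hv
        exact ⟨c, by simpa using hu⟩
      · rintro ⟨c, hc⟩
        exact ⟨_, hc, c * a (Fin.last n), Ideal.mem_span_singleton'.2 ⟨c, rfl⟩, by ring⟩
    -- modify the last entry of `b`
    have hass : (associatedPrimes R (R ⧸ I)).Finite := associatedPrimes.finite R (R ⧸ I)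
    obtain ⟨y, hyJ, hy⟩ := exists_add_notMem hass.toFinset
      (fun P hP => (hass.mem_toFinset.1 hP).isPrime) (b (Fin.last n))
      (Ideal.span (Set.range fun j : Fin n => b j.castSucc)) (by
        rintro P hP ⟨h1, h2⟩
        have hP' := hass.mem_toFinset.1 hP
        have hb : ∀ j, b j ∈ P := by
          intro j
          refine Fin.lastCases h1 (fun j => ?_) j
          exact h2 (Ideal.subset_span ⟨j, rfl⟩)
        have haP : a (Fin.last n) ∈ P := by
          rw [ha]
          change ∑ j, M (Fin.last n) j * b j ∈ P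
          exact Ideal.sum_mem _ (fun j _ => P.mul_mem_left _ (hb j))
        obtain ⟨z, hz, hz'⟩ := exists_of_mem_associatedPrimes I P hP' _ haP
        exact hz (hlast z hz'))
    obtain ⟨c, hc⟩ := (Ideal.mem_span_range_iff_exists_fun).1 hyJ
    set β := b (Fin.last n) + y with hβ
    have hβreg : ∀ z, β * z ∈ I → z ∈ I := fun z hz =>
      mem_of_forall_notMem I β (fun P hP => hy P (hass.mem_toFinset.2 hP)) z hz
    -- the new data
    let c' : Fin (n + 1) → R := Fin.snoc c 0
    have hc'last : c' (Fin.last n) = 0 := Fin.snoc_last _ _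
    have hc'cast : ∀ j : Fin n, c' j.castSucc = c j := fun j => Fin.snoc_castSucc _ _ _
    let M' : Matrix (Fin (n + 1)) (Fin (n + 1)) R :=
      Matrix.of fun i j => M i j - c' j * M i (Fin.last n)
    let b' : Fin (n + 1) → R := Fin.snoc (fun j => b j.castSucc) β
    have hb'last : b' (Fin.last n) = β := Fin.snoc_last _ _
    have hb'cast : ∀ j : Fin n, b' j.castSucc = b j.castSucc := fun j => Fin.snoc_castSucc _ _ _
    have hdet : M'.det = M.det := by
      rw [← Matrix.det_transpose M', ← Matrix.det_transpose M]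
      refine Matrix.det_eq_of_forall_row_eq_smul_add_const (fun j => - c' j) (Fin.last n)
        (by rw [hc'last, neg_zero]) (fun i j => ?_)
      simp only [Matrix.transpose_apply, M', Matrix.of_apply]
      ring
    have hM' : ∀ i, a i = ∑ j : Fin n, M' i j.castSucc * b j.castSucc + M' i (Fin.last n) * β := by
      intro i
      have h1 : a i = ∑ j : Fin (n + 1), M i j * b j := rfl
      rw [h1, Fin.sum_univ_castSucc, hβ, ← hc]
      simp only [M', Matrix.of_apply, hc'last, hc'cast, zero_mul, sub_zero, mul_add, sub_mul,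
        Finset.sum_sub_distrib, Finset.mul_sum]
      have : ∀ j : Fin n, c j * M i (Fin.last n) * b j.castSucc =
          M i (Fin.last n) * (c j * b j.castSucc) := fun j => by ring
      simp only [this]
      ring
    have hM'' : M'.mulVec b' = a := by
      ext i
      change ∑ j, M' i j * b' j = a i
      rw [Fin.sum_univ_castSucc, hM' i, hb'last]
      simp only [hb'cast]
    -- the determinant of the minor
    let N : Matrix (Fin n) (Fin n) R := M'.submatrix Fin.castSucc Fin.castSucc
    have hadj : M'.adjugate (Fin.last n) (Fin.last n) = N.det := by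
      rw [Matrix.adjugate_fin_succ_eq_det_submatrix]
      have : ((-1 : R) ^ ((Fin.last n : Fin (n + 1)) + (Fin.last n : Fin (n + 1)) : ℕ)) = 1 :=
        Even.neg_one_pow ⟨_, rfl⟩
      rw [this, one_mul]
      congr 1
      ext i j
      simp [N, Fin.succAbove_last]
    have hcramer : N.det * a (Fin.last n) - M.det * β ∈ I := by
      have h1 : M'.adjugate.mulVec a = M'.det • b' := by
        rw [← hM'', Matrix.mulVec_mulVec, Matrix.adjugate_mul, Matrix.smul_mulVec,
          Matrix.one_mulVec]
      have h2 : ∑ i, M'.adjugate (Fin.last n) i * a i = M'.det * β := by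
        have := congrFun h1 (Fin.last n)
        rw [Pi.smul_apply, hb'last, smul_eq_mul] at this
        exact this
      rw [Fin.sum_univ_castSucc, hadj, hdet] at h2
      rw [← h2]
      have h3 : N.det * a (Fin.last n) - (∑ i : Fin n, M'.adjugate (Fin.last n) i.castSucc *
          a i.castSucc + N.det * a (Fin.last n)) =
          - ∑ i : Fin n, M'.adjugate (Fin.last n) i.castSucc * a i.castSucc := by ring
      rw [h3]
      exact I.neg_mem (Ideal.sum_mem _ (fun i _ => I.mul_mem_left _ (hIa i)))
    -- the coefficients of `x β`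
    have hxβ : x * β ∈ Ideal.span (Set.range a) := by
      rw [hβ, mul_add]
      refine Ideal.add_mem _ (hx _) ?_
      rw [← hc, Finset.mul_sum]
      refine Ideal.sum_mem _ (fun j _ => ?_)
      have : x * (c j * b j.castSucc) = c j * (x * b j.castSucc) := by ring
      rw [this]
      exact Ideal.mul_mem_left _ _ (hx _)
    obtain ⟨cl, hcl⟩ := (hspan _).1 hxβ
    have hclb : ∀ j : Fin n, ∃ d, cl * b j.castSucc - d * β ∈ I := by
      intro j
      obtain ⟨d, hd⟩ := (hspan _).1 (hx j.castSucc)
      refine ⟨d, hlast _ ?_⟩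
      have : a (Fin.last n) * (cl * b j.castSucc - d * β) =
          β * (x * b j.castSucc - d * a (Fin.last n)) -
            b j.castSucc * (x * β - cl * a (Fin.last n)) := by ring
      rw [this]
      exact I.sub_mem (I.mul_mem_left _ hd) (I.mul_mem_left _ hcl)
    by_cases hunit : IsUnit β
    · refine Ideal.mem_sup_left ?_
      obtain ⟨v, hv⟩ := hunit.exists_right_inv
      have h0 : v * (x * β) = x := by
        have h1 : v * (x * β) = (β * v) * x := by ring
        rw [h1, hv, one_mul]
      rw [← h0]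
      exact Ideal.mul_mem_left _ _ hxβ
    -- pass to `R / β`
    let π : R →+* R ⧸ Ideal.span {β} := Ideal.Quotient.mk _
    have hnt : Nontrivial (R ⧸ Ideal.span {β}) :=
      Ideal.Quotient.nontrivial_iff.2 (by rwa [Ne, Ideal.span_singleton_eq_top])
    have hloc : IsLocalRing (R ⧸ Ideal.span {β}) :=
      IsLocalRing.of_surjective' π Ideal.Quotient.mk_surjective
    have hnoeth : IsNoetherianRing (R ⧸ Ideal.span {β}) :=
      isNoetherianRing_of_surjective _ _ π Ideal.Quotient.mk_surjective
    have hπloc : IsLocalHom π := IsLocalHom.of_surjective π Ideal.Quotient.mk_surjective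
    let N' : Matrix (Fin n) (Fin n) (R ⧸ Ideal.span {β}) := N.map π
    let b'' : Fin n → R ⧸ Ideal.span {β} := fun j => π (b j.castSucc)
    have hπβ : π β = 0 := Ideal.Quotient.eq_zero_iff_mem.2 (Ideal.mem_span_singleton_self β)
    have ha'' : N'.mulVec b'' = fun i => π (a i.castSucc) := by
      ext i
      rw [hM' i.castSucc, map_add, map_mul, hπβ, mul_zero, add_zero, map_sum]
      change ∑ j, N' i j * b'' j = _
      refine Finset.sum_congr rfl (fun j _ => ?_)
      rw [map_mul]
      rfl
    have hreg'' : IsWeaklyRegular (R ⧸ Ideal.span {β}) (List.ofFn (N'.mulVec b'')) := by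
      have h1 : IsWeaklyRegular R (l ++ [β]) :=
        (isWeaklyRegular_concat_iff l β).2 ⟨hlreg, hβreg⟩
      have h2 : IsWeaklyRegular R (β :: l) := by
        refine IsLocalRing.isWeaklyRegular_of_perm_of_subset_maximalIdeal h1
          (List.perm_append_singleton β l) ?_
        intro r hr
        rcases List.mem_append.1 hr with hr | hr
        · exact hlmem r hr
        · rw [List.mem_singleton.1 hr]
          exact (mem_maximalIdeal _).2 hunit
      have h3 := isWeaklyRegular_quot l β h2
      rw [ha'']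
      have h4 : List.ofFn (fun i : Fin n => π (a i.castSucc)) = l.map π := by
        rw [List.map_ofFn]
        rfl
      rw [h4]
      exact h3
    have key := ih N' b'' hreg'' (by
      intro i
      rw [ha'']
      exact map_nonunit π _ (hmax _)) (π cl) (by
      intro j
      obtain ⟨d, hd⟩ := hclb j
      have h1 : π cl * b'' j = π (cl * b j.castSucc - d * β) := by
        rw [map_sub, map_mul, map_mul, hπβ, mul_zero, sub_zero]
      rw [h1, ha'', ← ofList_ofFn]
      have h4 : List.ofFn (fun i : Fin n => π (a i.castSucc)) = l.map π := by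
        rw [List.map_ofFn]
        rfl
      rw [h4, ← Ideal.map_ofList]
      exact Ideal.mem_map_of_mem _ hd)
    have hNdet : N'.det = π N.det := (RingHom.map_det π N).symm
    have key2 : π cl ∈ (I ⊔ Ideal.span {N.det}).map π := by
      rw [Ideal.map_sup, Ideal.map_span π {N.det}, Set.image_singleton, ← hNdet, hI, Ideal.map_ofList]
      have h4 : List.ofFn (fun i : Fin n => π (a i.castSucc)) = l.map π := by
        rw [List.map_ofFn]
        rfl
      rw [← h4, ofList_ofFn, ← ha'']
      exact key
    obtain ⟨z, hz, hzcl⟩ := (Ideal.mem_map_iff_of_surjective π Ideal.Quotient.mk_surjective).1 key2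
    obtain ⟨i, hi, w, hw, rfl⟩ := Submodule.mem_sup.1 hz
    obtain ⟨e, rfl⟩ := Ideal.mem_span_singleton'.1 hw
    obtain ⟨g, hg⟩ := Ideal.mem_span_singleton'.1 (Ideal.Quotient.eq.1 hzcl.symm)
    have hfin : x - e * M.det - g * a (Fin.last n) ∈ I := by
      apply hβreg
      have : β * (x - e * M.det - g * a (Fin.last n)) =
          (x * β - cl * a (Fin.last n)) + (cl - (i + e * N.det) - g * β) * a (Fin.last n) +
            i * a (Fin.last n) + e * (N.det * a (Fin.last n) - M.det * β) := by ring
      rw [this, hg, sub_self, zero_mul, add_zero]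
      exact I.add_mem (I.add_mem hcl (I.mul_mem_right _ hi)) (I.mul_mem_left _ hcramer)
    have hx' : x = (x - e * M.det - g * a (Fin.last n)) + g * a (Fin.last n) + e * M.det := by ring
    rw [hx']
    refine Ideal.add_mem _ (Ideal.mem_sup_left ?_) (Ideal.mem_sup_right
      (Ideal.mem_span_singleton'.2 ⟨e, rfl⟩))
    exact (hspan _).2 ⟨g, by simpa using hfin⟩

end Groth.Agent.Ega4dB.Wiebe854
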